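import Mathlib
import Cfsg.Agent.H686.CharKit
import Cfsg.Agent.H674.Codegree
import Cfsg.Agent.H704.Bridge
import Cfsg.Agent.H621.SymDeg.Chars
import Cfsg.Agent.H677.CodPrime

/-!
# Codegrees inside the codegrees of an alternating group (helper495, S4941): basics

* `ADeg n d` : `d` is the degree of a nontrivial irreducible character of `A_n`
* `CodOK n H` : the codegrees of `H` are codegrees of `A_n`, in the form without division
* `CodOK.of_surj`, `CodOK.perfect`, `CodOK.simple`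
-/

set_option autoImplicit false
set_option linter.unusedSectionVars false

universe u v

namespace Cfsg.Agent.H495.Cod

open Cfsg Cfsg.Agent.Characters.Core Cfsg.Agent.H686.CharKit
open Cfsg.Agent.H704 (IsDeg)

/-- the order of `A_n` -/
noncomputable def aN (n : ℕ) : ℕ := Nat.card ↥(alternatingGroup (Fin n))

/-- `d` is the degree of a nontrivial irreducible character of `A_n` -/
def ADeg (n d : ℕ) : Prop := ∃ θ : IrrCharacter ↥(alternatingGroup (Fin n)),
  (θ : ↥(alternatingGroup (Fin n)) → ℂ) ≠ 1 ∧ charDegree (θ : ↥(alternatingGroup (Fin n)) → ℂ) = d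

/-- the codegrees of `H` are codegrees of `A_n` -/
def CodOK (n : ℕ) (H : Type u) [Group H] : Prop := ∀ χ : IrrCharacter H, (χ : H → ℂ) ≠ 1 →
  ∃ d : ℕ, ADeg n d ∧ Nat.card H * d = aN n * (Nat.card {g : H // (χ : H → ℂ) g = (χ : H → ℂ) 1} *
    charDegree (χ : H → ℂ))

theorem two_mul_aN {n : ℕ} (hn : 2 ≤ n) : 2 * aN n = n.factorial := by
  have : Nontrivial (Fin n) := Fin.nontrivial_iff_two_le.2 hn
  rw [aN, two_mul_nat_card_alternatingGroup, Nat.card_perm, Nat.card_fin]

theorem aN_pos (n : ℕ) : 0 < aN n := Nat.card_pos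

theorem charDegree_one {G : Type u} [Group G] : charDegree (1 : G → ℂ) = 1 := by
  simp [charDegree]

/-- a nontrivial irreducible character satisfies `χ(1)² + 1 ≤ |T|` -/
theorem sq_lt {T : Type u} [Group T] [Finite T] (χ : IrrCharacter T) (h : (χ : T → ℂ) ≠ 1) :
    charDegree (χ : T → ℂ) ^ 2 + 1 ≤ Nat.card T := by
  classical
  have := finite_irr (G := T)
  have := Fintype.ofFinite (IrrCharacter T)
  let o : IrrCharacter T := ⟨1, isIrr_one⟩
  have ho : χ ≠ o := fun h1 => h (by rw [h1])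
  rw [← sum_deg_sq (G := T)]
  have h1 : ∑ η ∈ ({χ, o} : Finset (IrrCharacter T)), charDegree (η : T → ℂ) ^ 2 ≤
      ∑ η : IrrCharacter T, charDegree (η : T → ℂ) ^ 2 :=
    Finset.sum_le_sum_of_subset (Finset.subset_univ _)
  rw [Finset.sum_pair ho] at h1
  have h2 : charDegree (o : T → ℂ) = 1 := charDegree_one
  rw [h2, one_pow] at h1
  exact h1

theorem card_ker {T : Type u} [Group T] [Finite T] (χ : IrrCharacter T) :
    Nat.card {g : T // (χ : T → ℂ) g = (χ : T → ℂ) 1} = Nat.card (chKer χ) := rfl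

theorem ker_dvd {T : Type u} [Group T] [Finite T] (χ : IrrCharacter T) :
    Nat.card {g : T // (χ : T → ℂ) g = (χ : T → ℂ) 1} * charDegree (χ : T → ℂ) ∣ Nat.card T := by
  rw [card_ker]
  exact H674.Codegree.kernel_mul_degree_dvd χ.2 (chKer χ) fun g => Iff.rfl

/-- the codegree of a nontrivial character is larger than `1` -/
theorem ker_lt {T : Type u} [Group T] [Finite T] (χ : IrrCharacter T) (h : (χ : T → ℂ) ≠ 1) :
    Nat.card {g : T // (χ : T → ℂ) g = (χ : T → ℂ) 1} * charDegree (χ : T → ℂ) < Nat.card T := by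
  rw [card_ker]
  obtain ⟨ψ, hψ⟩ := exists_infl (chKer χ) χ le_rfl
  have hne : (ψ : T ⧸ chKer χ → ℂ) ≠ 1 := by
    intro h1
    apply h
    funext g
    rw [← hψ, infl_apply, h1]
    rfl
  have h1 := sq_lt ψ hne
  have hdeg : charDegree (χ : T → ℂ) = charDegree (ψ : T ⧸ chKer χ → ℂ) := by
    have h2 : (χ : T → ℂ) 1 = (ψ : T ⧸ chKer χ → ℂ) 1 := by
      conv_lhs => rw [← hψ]
      exact infl_apply _ _ _
    rw [charDegree, charDegree, h2]
  have h2 : charDegree (ψ : T ⧸ chKer χ → ℂ) < Nat.card (T ⧸ chKer χ) := by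
    have := charDegree_pos ψ
    nlinarith
  rw [hdeg, Subgroup.card_eq_card_quotient_mul_card_subgroup (chKer χ), mul_comm]
  exact Nat.mul_lt_mul_of_pos_right h2 Nat.card_pos

/-- a nonabelian simple group is perfect -/
theorem perfect_of_simple {T : Type u} [Group T] [IsSimpleGroup T] (h : ¬ ∀ a b : T, a * b = b * a) :
    commutator T = ⊤ := by
  rcases (inferInstance : (commutator T).Normal).eq_bot_or_eq_top with h4 | h4
  · exfalso
    apply h
    intro a b
    have h6 : a * b * a⁻¹ * b⁻¹ ∈ commutator T :=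
      Subgroup.commutator_mem_commutator (Subgroup.mem_top a) (Subgroup.mem_top b)
    rw [h4, Subgroup.mem_bot] at h6
    have h7 : a * b * (b * a)⁻¹ = 1 := by rw [← h6]; group
    exact mul_inv_eq_one.1 h7
  · exact h4

/-- the kernel of a nontrivial irreducible character of a simple group -/
theorem card_ker_simple {T : Type u} [Group T] [Finite T] [IsSimpleGroup T] (χ : IrrCharacter T) (h : (χ : T → ℂ) ≠ 1) :
    Nat.card {g : T // (χ : T → ℂ) g = (χ : T → ℂ) 1} = 1 := by
  rw [card_ker]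
  rcases (chKer_normal χ).eq_bot_or_eq_top with h1 | h1
  · rw [h1, Subgroup.card_bot]
  · exfalso
    have h2 := ker_lt χ h
    rw [card_ker, h1, Subgroup.card_top] at h2
    have := charDegree_pos χ
    have h3 : Nat.card T * 1 ≤ Nat.card T * charDegree (χ : T → ℂ) := Nat.mul_le_mul_left _ this
    omega

theorem card_ker_one {T : Type u} [Group T] [Finite T] :
    Nat.card {g : T // (1 : T → ℂ) g = (1 : T → ℂ) 1} = Nat.card T :=
  Nat.card_congr (Equiv.subtypeUnivEquiv fun _ => rfl)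

theorem simple_alt {n : ℕ} (hn : 5 ≤ n) : IsSimpleGroup ↥(alternatingGroup (Fin n)) :=
  alternatingGroup.isSimpleGroup (by rw [Nat.card_eq_fintype_card, Fintype.card_fin]; exact hn)

/-- from the statement to `CodOK` -/
theorem CodOK.of_hyp {n : ℕ} (hn : 5 ≤ n) {G : Type u} [Group G] [Finite G]
    (h : ∀ χ : Cfsg.IrrCharacter G, ∃ ψ : Cfsg.IrrCharacter ↥(alternatingGroup (Fin n)),
      (Nat.card G / (Nat.card {g : G // (χ : G → ℂ) g = (χ : G → ℂ) 1} * Cfsg.charDegree (χ : G → ℂ))) =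
      (Nat.card ↥(alternatingGroup (Fin n)) / (Nat.card {g : ↥(alternatingGroup (Fin n)) //
        (ψ : ↥(alternatingGroup (Fin n)) → ℂ) g = (ψ : ↥(alternatingGroup (Fin n)) → ℂ) 1} *
        Cfsg.charDegree (ψ : ↥(alternatingGroup (Fin n)) → ℂ)))) : CodOK n G := by
  have := simple_alt hn
  intro χ hχ
  obtain ⟨ψ, hψ⟩ := h χ
  obtain ⟨c, hc⟩ := ker_dvd χ
  have hpos : 0 < Nat.card {g : G // (χ : G → ℂ) g = (χ : G → ℂ) 1} * charDegree (χ : G → ℂ) := by
    apply Nat.pos_of_ne_zero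
    intro h0
    rw [h0, zero_mul] at hc
    exact Nat.card_pos.ne' hc
  have hlt := ker_lt χ hχ
  have h1 : Nat.card G / (Nat.card {g : G // (χ : G → ℂ) g = (χ : G → ℂ) 1} * charDegree (χ : G → ℂ)) = c := by
    rw [hc]
    exact Nat.mul_div_cancel_left _ hpos
  rw [h1] at hψ
  have hc1 : 1 < c := by
    by_contra hne
    have h2 : c ≤ 1 := by omega
    have h3 := Nat.mul_le_mul_left (Nat.card {g : G // (χ : G → ℂ) g = (χ : G → ℂ) 1} * charDegree (χ : G → ℂ)) h2
    rw [← hc, mul_one] at h3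
    omega
  have hψ1 : (ψ : ↥(alternatingGroup (Fin n)) → ℂ) ≠ 1 := by
    intro h2
    rw [h2, card_ker_one, charDegree_one, mul_one, Nat.div_self Nat.card_pos] at hψ
    omega
  refine ⟨_, ⟨ψ, hψ1, rfl⟩, ?_⟩
  rw [card_ker_simple ψ hψ1, one_mul] at hψ
  obtain ⟨e, he⟩ := H674.Codegree.charDegree_dvd_card ψ.2
  have h3 : Nat.card ↥(alternatingGroup (Fin n)) / charDegree (ψ : ↥(alternatingGroup (Fin n)) → ℂ) = e := by
    rw [he]
    exact Nat.mul_div_cancel_left _ (charDegree_pos ψ)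
  rw [h3] at hψ
  subst hψ
  rw [aN, he]
  calc Nat.card G * charDegree (ψ : ↥(alternatingGroup (Fin n)) → ℂ)
      = (Nat.card {g : G // (χ : G → ℂ) g = (χ : G → ℂ) 1} * charDegree (χ : G → ℂ) * c) *
        charDegree (ψ : ↥(alternatingGroup (Fin n)) → ℂ) := by rw [← hc]
    _ = _ := by ring

theorem ADeg.facts {n d : ℕ} (hn : 5 ≤ n) (h : ADeg n d) : 1 < d ∧ d * d < aN n ∧ d ∣ aN n ∧
    (IsDeg n d ∨ IsDeg n (2 * d)) := by
  obtain ⟨θ, h1, rfl⟩ := h
  have := simple_alt hn
  have h2 := sq_lt θ h1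
  refine ⟨?_, ?_, H674.Codegree.charDegree_dvd_card θ.2, ?_⟩
  · by_contra hne
    have h3 : charDegree (θ : ↥(alternatingGroup (Fin n)) → ℂ) = 1 := by
      have := charDegree_pos θ
      omega
    apply h1
    have hp : commutator ↥(alternatingGroup (Fin n)) = ⊤ := by
      apply perfect_of_simple
      intro h5
      obtain ⟨ψ, hψ, hψ1⟩ := H621.SymDeg.alt_irr hn (MulEquiv.refl ↥(alternatingGroup (Fin n)))
      have h8 := H621.SymDeg.degree_le_of_comm hψ ⊤ (fun a _ b _ => h5 a b) hψ1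
      rw [Subgroup.index_top] at h8
      omega
    refine H621.SymDeg.eq_one_of_perfect hp θ.2 ?_
    rw [← charDegree_irr θ, h3, Nat.cast_one]
  · have : aN n = Nat.card ↥(alternatingGroup (Fin n)) := rfl
    nlinarith
  · have hidx : (alternatingGroup (Fin n)).index = 2 := by
      have : Nontrivial (Fin n) := Fin.nontrivial_iff_two_le.2 (by omega)
      exact alternatingGroup.index_eq_two
    obtain ⟨χ, hχ, hχ1⟩ := H621.SymDeg.exists_over hidx θ.2
    obtain ⟨d, hd, hd'⟩ := H704.isDeg_of_irr hχ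
    rw [← charDegree_irr θ, hd] at hχ1
    rcases hχ1 with h3 | h3
    · left
      have : d = charDegree (θ : ↥(alternatingGroup (Fin n)) → ℂ) := by exact_mod_cast h3
      rwa [← this]
    · right
      have : d = 2 * charDegree (θ : ↥(alternatingGroup (Fin n)) → ℂ) := by exact_mod_cast h3
      rwa [← this]

/-- quotients -/
theorem CodOK.of_surj {n : ℕ} {H : Type u} {T : Type v} [Group H] [Finite H] [Group T] [Finite T] (h : CodOK n H)
    (f : H →* T) (hf : Function.Surjective f) : CodOK n T := by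
  intro χ hχ
  let ψ : IrrCharacter H := ⟨(χ : T → ℂ) ∘ f, isIrr_comp f hf χ.2⟩
  have hψ : (ψ : H → ℂ) ≠ 1 := by
    intro h1
    apply hχ
    funext t
    obtain ⟨g, rfl⟩ := hf t
    exact congrFun h1 g
  obtain ⟨d, hd, h1⟩ := h ψ hψ
  refine ⟨d, hd, ?_⟩
  have hcH : Nat.card H = Nat.card f.ker * Nat.card T := by
    rw [← Nat.card_congr (QuotientGroup.quotientKerEquivOfSurjective f hf).toEquiv, mul_comm]
    exact Subgroup.card_eq_card_quotient_mul_card_subgroup f.ker
  have hdeg : charDegree (ψ : H → ℂ) = charDegree (χ : T → ℂ) := by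
    rw [charDegree, charDegree]
    show Nat.floor ((χ : T → ℂ) (f 1)).re = _
    rw [map_one]
  have hk : Nat.card {g : H // (ψ : H → ℂ) g = (ψ : H → ℂ) 1} =
      Nat.card f.ker * Nat.card {g : T // (χ : T → ℂ) g = (χ : T → ℂ) 1} := by
    rw [card_ker, card_ker]
    have h2 : chKer ψ = (chKer χ).comap f := by
      ext g
      rw [mem_chKer, Subgroup.mem_comap, mem_chKer]
      show (χ : T → ℂ) (f g) = (χ : T → ℂ) (f 1) ↔ _
      rw [map_one]
    rw [h2]
    have h3 := Subgroup.index_comap_of_surjective (chKer χ) hf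
    have h4 := Subgroup.card_mul_index ((chKer χ).comap f)
    have h5 := Subgroup.card_mul_index (chKer χ)
    rw [h3, hcH, ← h5, ← mul_assoc] at h4
    exact Nat.eq_of_mul_eq_mul_right (Nat.pos_of_ne_zero (chKer χ).index_ne_zero_of_finite) h4
  rw [hcH, hk, hdeg] at h1
  have hpos : 0 < Nat.card f.ker := Nat.card_pos
  apply Nat.eq_of_mul_eq_mul_left hpos
  rw [← mul_assoc, h1]
  ring

/-- groups with `CodOK` are perfect -/
theorem CodOK.perfect {n : ℕ} (hn : 5 ≤ n) {H : Type u} [Group H] [Finite H] (h : CodOK n H) : commutator H = ⊤ := by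
  by_contra hne
  obtain ⟨f, p, hp, hf⟩ := H677.CodPrime.exists_hom_prime hne
  let χ : IrrCharacter H := ⟨fun g => (f g : ℂ), Characters.Linear.isIrrCharacter_hom f⟩
  have hχ : (χ : H → ℂ) ≠ 1 := by
    intro h1
    have h2 : f.ker = ⊤ := by
      rw [eq_top_iff]
      intro g _
      rw [MonoidHom.mem_ker]
      exact Units.ext (congrFun h1 g)
    rw [h2, Subgroup.index_top] at hf
    exact hp.one_lt.ne hf
  obtain ⟨d, hd, h1⟩ := h χ hχ
  obtain ⟨hd1, hd2, hd3, -⟩ := hd.facts hn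
  have hdeg : charDegree (χ : H → ℂ) = 1 := by
    rw [charDegree]
    show Nat.floor (((f 1 : ℂˣ) : ℂ)).re = 1
    rw [map_one]
    simp
  have hk : Nat.card {g : H // (χ : H → ℂ) g = (χ : H → ℂ) 1} = Nat.card f.ker := by
    refine Nat.card_congr (Equiv.subtypeEquivRight fun g => ?_)
    rw [MonoidHom.mem_ker]
    show ((f g : ℂˣ) : ℂ) = ((f 1 : ℂˣ) : ℂ) ↔ _
    rw [map_one]
    exact ⟨fun h => Units.ext h, fun h => by rw [h]⟩
  rw [hdeg, hk, mul_one] at h1
  have h2 := Subgroup.card_mul_index f.ker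
  rw [hf] at h2
  have h3 : p * d = aN n := by
    rw [← h2, mul_assoc, mul_comm (aN n)] at h1
    exact Nat.eq_of_mul_eq_mul_left Nat.card_pos h1
  have h4 : d < p := by
    by_contra h5
    rw [not_lt] at h5
    have := Nat.mul_le_mul_right d h5
    omega
  have h5 : p ≤ n := by
    have h6 : p ∣ n.factorial := by
      rw [← two_mul_aN (by omega), ← h3, ← mul_assoc, mul_comm 2 p, mul_assoc]
      exact Dvd.intro _ rfl
    exact (hp.dvd_factorial).1 h6
  have h6 : 2 * (p * d) = n.factorial := by rw [h3, two_mul_aN (by omega)]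
  have h7 : p * d < n * n := by nlinarith
  obtain ⟨m, rfl⟩ : ∃ m, n = m + 5 := ⟨n - 5, by omega⟩
  have h8 : 2 * ((m + 5) * (m + 5)) ≤ (m + 5).factorial := by
    rw [Nat.factorial_succ, Nat.factorial_succ]
    have h9 : Nat.factorial 3 ≤ (m + 3).factorial := Nat.factorial_le (by omega)
    have h10 : Nat.factorial 3 = 6 := rfl
    rw [h10] at h9
    calc 2 * ((m + 5) * (m + 5)) ≤ (m + 5) * ((m + 4) * 6) := by nlinarith
      _ ≤ _ := Nat.mul_le_mul_left _ (Nat.mul_le_mul_left _ h9)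
  omega

/-- simple groups with `CodOK`: the order divides `|A_n|`, and the degrees times the quotient are degrees of `A_n` -/
theorem CodOK.simple {n : ℕ} {S : Type u} [Group S] [Finite S] [IsSimpleGroup S] (h : CodOK n S) :
    ∃ k : ℕ, aN n = k * Nat.card S ∧ ∀ χ : IrrCharacter S, (χ : S → ℂ) ≠ 1 → ADeg n (k * charDegree (χ : S → ℂ)) := by
  classical
  have := finite_irr (G := S)
  have := Fintype.ofFinite (IrrCharacter S)
  have key : ∀ χ : IrrCharacter S, (χ : S → ℂ) ≠ 1 → ∃ d, ADeg n d ∧ Nat.card S * d = aN n * charDegree (χ : S → ℂ) := by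
    intro χ hχ
    obtain ⟨d, hd, h1⟩ := h χ hχ
    rw [card_ker_simple χ hχ, one_mul] at h1
    exact ⟨d, hd, h1⟩
  have hS : 0 < Nat.card S := Nat.card_pos
  have hdvd : Nat.card S ∣ aN n := by
    rw [← Nat.pow_dvd_pow_iff (n := 2) (by norm_num)]
    let o : IrrCharacter S := ⟨1, isIrr_one⟩
    have h1 : ∀ χ ∈ Finset.univ.erase o, (Nat.card S) ^ 2 ∣ (aN n) ^ 2 * charDegree (χ : S → ℂ) ^ 2 := by
      intro χ hχ
      obtain ⟨d, -, h2⟩ := key χ fun h3 => (Finset.ne_of_mem_erase hχ) (Subtype.ext h3)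
      rw [← mul_pow, ← h2, mul_pow]
      exact Dvd.intro _ rfl
    have h2 := Finset.dvd_sum h1
    rw [← Finset.mul_sum] at h2
    have h3 := Finset.add_sum_erase Finset.univ (fun χ : IrrCharacter S => charDegree (χ : S → ℂ) ^ 2) (Finset.mem_univ o)
    rw [sum_deg_sq] at h3
    have h4 : charDegree (o : S → ℂ) = 1 := charDegree_one
    rw [h4, one_pow] at h3
    have h5 : Nat.card S ^ 2 ∣ (aN n) ^ 2 * (Nat.card S - 1) := by
      rw [show Nat.card S - 1 = ∑ χ ∈ Finset.univ.erase o, charDegree (χ : S → ℂ) ^ 2 by omega]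
      exact h2
    refine Nat.Coprime.dvd_of_dvd_mul_right ?_ h5
    apply Nat.Coprime.pow_left
    rw [Nat.coprime_comm]
    exact (Nat.coprime_self_sub_left (by omega : 1 ≤ Nat.card S)).2 (Nat.coprime_one_left _)
  obtain ⟨k, hk⟩ := hdvd
  refine ⟨k, by rw [hk, mul_comm], fun χ hχ => ?_⟩
  obtain ⟨d, hd, h1⟩ := key χ hχ
  have h2 : d = k * charDegree (χ : S → ℂ) := by
    rw [hk, mul_assoc] at h1
    exact Nat.eq_of_mul_eq_mul_left hS h1
  rwa [← h2]

end Cfsg.Agent.H495.Cod
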