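import Cfsg.Agent.H495.Cod.Basic

/-!
# Codegrees inside the codegrees of an alternating group (helper495, S4941): the kernel

`G` perfect with `CodOK n G`, `M` a minimal normal subgroup, `G / M ≃* A_n`:
* `uniq` : every nontrivial normal subgroup contains `M`;
* `sq_dvd` : `|M|² ∣ |A_n|`;
* `above` : the irreducible characters of `G` not containing `M` in their kernel have degree `|M| d`, `d` the degree of a
  nontrivial irreducible character of `A_n`, and the sum of the squares is `|A_n| (|M| - 1)`.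
-/

set_option autoImplicit false
set_option linter.unusedSectionVars false

universe u v

namespace Cfsg.Agent.H495.Cod

open Cfsg Cfsg.Agent.Characters.Core Cfsg.Agent.H686.CharKit Subgroup

variable {n : ℕ} {G : Type u} [Group G] [Finite G]

theorem card_eq (M : Subgroup G) [M.Normal] (e : G ⧸ M ≃* alternatingGroup (Fin n)) :
    Nat.card G = Nat.card M * aN n := by
  rw [Subgroup.card_eq_card_quotient_mul_card_subgroup M, Nat.card_congr e.toEquiv, mul_comm]
  rfl

/-- faithful characters -/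
theorem faithful_deg (h : CodOK n G) (M : Subgroup G) [M.Normal] (e : G ⧸ M ≃* alternatingGroup (Fin n))
    {χ : IrrCharacter G} (hχ : (χ : G → ℂ) ≠ 1) (hk : chKer χ = ⊥) :
    ∃ d, ADeg n d ∧ charDegree (χ : G → ℂ) = Nat.card M * d := by
  obtain ⟨d, hd, h1⟩ := h χ hχ
  refine ⟨d, hd, ?_⟩
  rw [card_ker, hk, Subgroup.card_bot, one_mul, card_eq M e] at h1
  have h2 : aN n * (Nat.card M * d) = aN n * charDegree (χ : G → ℂ) := by
    rw [← h1]; ring
  exact (Nat.eq_of_mul_eq_mul_left (aN_pos n) h2).symm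

theorem faithful_lt (hn : 5 ≤ n) (h : CodOK n G) (M : Subgroup G) [M.Normal] (e : G ⧸ M ≃* alternatingGroup (Fin n))
    {χ : IrrCharacter G} (hχ : (χ : G → ℂ) ≠ 1) (hk : chKer χ = ⊥) : Nat.card M < aN n := by
  obtain ⟨d, hd, h1⟩ := faithful_deg h M e hχ hk
  have h2 := sq_lt χ hχ
  have hd1 := (hd.facts hn).1
  rw [h1, card_eq M e] at h2
  by_contra hne
  rw [not_lt] at hne
  have h3 : Nat.card M * aN n ≤ Nat.card M * Nat.card M := Nat.mul_le_mul_left _ hne
  have h4 : Nat.card M * Nat.card M ≤ (Nat.card M * d) ^ 2 := by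
    rw [mul_pow, sq]
    exact Nat.le_mul_of_pos_right _ (pow_pos (by omega) 2)
  omega

/-- a normal subgroup not contained in `M` together with `M` is everything -/
theorem sup_eq_top (hn : 5 ≤ n) (M : Subgroup G) [M.Normal] (e : G ⧸ M ≃* alternatingGroup (Fin n)) (K : Subgroup G)
    [hK : K.Normal] (h : ¬ K ≤ M) : K ⊔ M = ⊤ := by
  have := simple_alt hn
  have hs : IsSimpleGroup (G ⧸ M) := e.isSimpleGroup
  have hn' : (K.map (QuotientGroup.mk' M)).Normal := hK.map _ (QuotientGroup.mk'_surjective M)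
  rcases hn'.eq_bot_or_eq_top with h1 | h1
  · exfalso
    apply h
    rw [Subgroup.map_eq_bot_iff, QuotientGroup.ker_mk'] at h1
    exact h1
  · have h2 := congrArg (Subgroup.comap (QuotientGroup.mk' M)) h1
    rw [Subgroup.comap_map_eq, QuotientGroup.ker_mk', Subgroup.comap_top] at h2
    exact h2

theorem card_of_compl (hn : 5 ≤ n) (M : Subgroup G) [M.Normal] (e : G ⧸ M ≃* alternatingGroup (Fin n)) (K : Subgroup G)
    [hK : K.Normal] (h1 : K ≠ ⊥) (h2 : K ⊓ M = ⊥) : K ⊔ M = ⊤ ∧ Nat.card K = aN n := by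
  have h3 : K ⊔ M = ⊤ := by
    apply sup_eq_top hn M e
    intro h
    rw [inf_eq_left.2 h] at h2
    exact h1 h2
  refine ⟨h3, ?_⟩
  have h4 : Subgroup.IsComplement' K M := by
    rw [Subgroup.isComplement'_def]
    exact Subgroup.isComplement'_of_disjoint_and_mul_eq_univ (disjoint_iff.2 h2) (by
      rw [← Subgroup.mul_normal, h3]; rfl)
  have h5 := h4.card_mul_card
  rw [card_eq M e, mul_comm] at h5
  exact Nat.eq_of_mul_eq_mul_left Nat.card_pos h5

/-- the sum of the squares of the degrees of the characters with `N` in the kernel -/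
theorem sum_sq_ker (N : Subgroup G) [N.Normal] [Fintype (IrrCharacter G)] [DecidablePred fun χ : IrrCharacter G => N ≤ chKer χ] :
    ∑ χ ∈ (Finset.univ.filter fun χ : IrrCharacter G => N ≤ chKer χ), charDegree (χ : G → ℂ) ^ 2 = Nat.card (G ⧸ N) := by
  classical
  have := finite_irr (G := G ⧸ N)
  have := Fintype.ofFinite (IrrCharacter (G ⧸ N))
  rw [← sum_deg_sq (G := G ⧸ N)]
  symm
  refine Finset.sum_bij (fun ψ _ => infl N ψ) ?_ ?_ ?_ ?_
  · intro ψ _
    rw [Finset.mem_filter]
    exact ⟨Finset.mem_univ _, le_chKer_infl N ψ⟩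
  · intro a _ b _ hab
    exact infl_injective N hab
  · intro χ hχ
    obtain ⟨ψ, hψ⟩ := exists_infl N χ (Finset.mem_filter.1 hχ).2
    exact ⟨ψ, Finset.mem_univ _, hψ⟩
  · intro ψ _
    rfl

theorem quot_simple {K M : Subgroup G} [hK : K.Normal] [hM : M.Normal] (hKM : K ⊓ M = ⊥) (hT : K ⊔ M = ⊤) (hM1 : M ≠ ⊥)
    (hmin : ∀ L : Subgroup G, L.Normal → L ≤ M → L = ⊥ ∨ L = M) : IsSimpleGroup (G ⧸ K) := by
  have hcard : Nat.card K * Nat.card M = Nat.card G := by
    have h4 : Subgroup.IsComplement' K M := by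
      rw [Subgroup.isComplement'_def]
      exact Subgroup.isComplement'_of_disjoint_and_mul_eq_univ (disjoint_iff.2 hKM) (by
        rw [← Subgroup.mul_normal, hT]; rfl)
    exact h4.card_mul_card
  have hMc : 1 < Nat.card M := Subgroup.one_lt_card_iff_ne_bot _ |>.2 hM1
  have hq : Nat.card (G ⧸ K) = Nat.card M := by
    have := Subgroup.card_eq_card_quotient_mul_card_subgroup K
    rw [← hcard, mul_comm] at this
    exact (Nat.eq_of_mul_eq_mul_right Nat.card_pos this).symm
  have : Nontrivial (G ⧸ K) := by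
    rw [← Finite.one_lt_card_iff_nontrivial, hq]
    exact hMc
  refine ⟨fun L hL => ?_⟩
  have hL' : (L.comap (QuotientGroup.mk' K)).Normal := hL.comap _
  have hKL : K ≤ L.comap (QuotientGroup.mk' K) := by
    intro x hx
    rw [Subgroup.mem_comap, QuotientGroup.mk'_apply, (QuotientGroup.eq_one_iff x).2 hx]
    exact L.one_mem
  rcases hmin (L.comap (QuotientGroup.mk' K) ⊓ M) inferInstance inf_le_right with h | h
  · left
    have h5 : L.comap (QuotientGroup.mk' K) = K := by
      symm
      apply Subgroup.eq_of_le_of_card_ge hKL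
      have h6 : Nat.card (L.comap (QuotientGroup.mk' K)) * Nat.card M ≤ Nat.card G := by
        have h7 : Function.Injective (fun x : (L.comap (QuotientGroup.mk' K)) × M => (x.1 : G) * (x.2 : G)) := by
          rintro ⟨a, b⟩ ⟨c, d⟩ hab
          have h8 : (a : G) * b = c * d := hab
          have h9 : (c : G)⁻¹ * a = d * (b : G)⁻¹ := by
            rw [inv_mul_eq_iff_eq_mul, ← mul_assoc, ← h8, mul_inv_cancel_right]
          have h10 : (c : G)⁻¹ * a ∈ L.comap (QuotientGroup.mk' K) ⊓ M :=
            ⟨(L.comap (QuotientGroup.mk' K)).mul_mem ((L.comap (QuotientGroup.mk' K)).inv_mem c.2) a.2,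
              by rw [h9]; exact M.mul_mem d.2 (M.inv_mem b.2)⟩
          rw [h, Subgroup.mem_bot] at h10
          have h11 : (a : G) = c := (inv_mul_eq_one.1 h10).symm
          have h12 : (b : G) = d := by rw [h11] at h8; exact mul_left_cancel h8
          exact Prod.ext (Subtype.ext h11) (Subtype.ext h12)
        have h8 := Nat.card_le_card_of_injective _ h7
        rwa [Nat.card_prod] at h8
      rw [← hcard] at h6
      exact Nat.le_of_mul_le_mul_right h6 Nat.card_pos
    have h6 := Subgroup.map_comap_eq_self_of_surjective (QuotientGroup.mk'_surjective K) L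
    rw [← h6, h5, Subgroup.map_eq_bot_iff, QuotientGroup.ker_mk']
  · right
    have h5 : M ≤ L.comap (QuotientGroup.mk' K) := by rw [← h]; exact inf_le_left
    have h6 : L.comap (QuotientGroup.mk' K) = ⊤ := by
      rw [eq_top_iff, ← hT]
      exact sup_le hKL h5
    have h7 := Subgroup.map_comap_eq_self_of_surjective (QuotientGroup.mk'_surjective K) L
    rw [← h7, h6, ← MonoidHom.range_eq_map, MonoidHom.range_eq_top]
    exact QuotientGroup.mk'_surjective K

/-- quotients of perfect groups -/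
theorem perfect_quot {K : Subgroup G} [K.Normal] (hp : commutator G = ⊤) : commutator (G ⧸ K) = ⊤ := by
  have h1 := Subgroup.map_commutator (⊤ : Subgroup G) ⊤ (QuotientGroup.mk' K)
  rw [← MonoidHom.range_eq_map, MonoidHom.range_eq_top.2 (QuotientGroup.mk'_surjective K)] at h1
  rw [commutator_def, ← h1, ← commutator_def, hp, ← MonoidHom.range_eq_map,
    MonoidHom.range_eq_top.2 (QuotientGroup.mk'_surjective K)]

/-- every nontrivial normal subgroup contains `M` -/
theorem uniq (hn : 5 ≤ n) (h : CodOK n G) (hp : commutator G = ⊤)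
    (hS : ∀ (S : Type u) [Group S] [Finite S] [IsSimpleGroup S], ¬ (∀ a b : S, a * b = b * a) → CodOK n S →
      Nat.card S = aN n)
    (M : Subgroup G) [hM : M.Normal] (e : G ⧸ M ≃* alternatingGroup (Fin n)) (hM1 : M ≠ ⊥)
    (hmin : ∀ L : Subgroup G, L.Normal → L ≤ M → L = ⊥ ∨ L = M) (K : Subgroup G) (hK : K.Normal) (hK1 : K ≠ ⊥) :
    M ≤ K := by
  classical
  by_contra hMK
  have hKM : K ⊓ M = ⊥ := by
    rcases hmin (K ⊓ M) inferInstance inf_le_right with h1 | h1
    · exact h1
    · exact absurd (inf_eq_right.1 h1) hMK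
  obtain ⟨hT, hcK⟩ := card_of_compl hn M e K hK1 hKM
  have hs := quot_simple hKM hT hM1 hmin
  have hna : ¬ ∀ a b : G ⧸ K, a * b = b * a := by
    intro hc
    have h1 := perfect_quot (K := K) hp
    have h2 : commutator (G ⧸ K) = ⊥ := by
      rw [commutator_eq_bot_iff_center_eq_top, eq_top_iff]
      intro x _
      rw [Subgroup.mem_center_iff]
      exact fun y => hc y x
    rw [h1] at h2
    exact top_ne_bot h2
  have hcod : CodOK n (G ⧸ K) := h.of_surj (QuotientGroup.mk' K) (QuotientGroup.mk'_surjective K)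
  have h1 := hS (G ⧸ K) hna hcod
  have hcG := card_eq M e
  have hcM : Nat.card M = aN n := by
    have h2 := Subgroup.card_eq_card_quotient_mul_card_subgroup K
    rw [h1, hcK, hcG] at h2
    exact Nat.eq_of_mul_eq_mul_right (aN_pos n) h2
  have hqM : Nat.card (G ⧸ M) = aN n := Nat.card_congr e.toEquiv
  have hA : 60 ≤ aN n := by
    have h2 := two_mul_aN (n := n) (by omega)
    have h3 := Nat.factorial_le hn
    have h4 : Nat.factorial 5 = 120 := rfl
    omega
  -- a character with neither `K` nor `M` in the kernel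
  have := finite_irr (G := G)
  have := Fintype.ofFinite (IrrCharacter G)
  obtain ⟨χ, hχK, hχM⟩ : ∃ χ : IrrCharacter G, ¬ K ≤ chKer χ ∧ ¬ M ≤ chKer χ := by
    by_contra hcon
    push Not at hcon
    have h2 := sum_deg_sq (G := G)
    have h3 : ∑ χ : IrrCharacter G, charDegree (χ : G → ℂ) ^ 2 ≤
        ∑ χ ∈ (Finset.univ.filter fun χ : IrrCharacter G => K ≤ chKer χ), charDegree (χ : G → ℂ) ^ 2 +
        ∑ χ ∈ (Finset.univ.filter fun χ : IrrCharacter G => M ≤ chKer χ), charDegree (χ : G → ℂ) ^ 2 := by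
      rw [← Finset.sum_filter_add_sum_filter_not Finset.univ (fun χ : IrrCharacter G => K ≤ chKer χ)]
      apply Nat.add_le_add_left
      apply Finset.sum_le_sum_of_subset
      intro χ hχ
      rw [Finset.mem_filter] at hχ ⊢
      exact ⟨hχ.1, hcon χ hχ.2⟩
    rw [sum_sq_ker K, sum_sq_ker M, h1, hqM, h2, hcG, hcM] at h3
    nlinarith
  have hχ1 : (χ : G → ℂ) ≠ 1 := by
    intro h2
    apply hχM
    intro g _
    rw [mem_chKer, h2]
    rfl
  by_cases hL : chKer χ = ⊥
  · have := faithful_lt hn h M e hχ1 hL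
    omega
  · have hLM : chKer χ ⊓ M = ⊥ := by
      rcases hmin (chKer χ ⊓ M) inferInstance inf_le_right with h2 | h2
      · exact h2
      · exact absurd (inf_eq_right.1 h2) hχM
    obtain ⟨hLT, hcL⟩ := card_of_compl hn M e (chKer χ) hL hLM
    have hLK : chKer χ ⊓ K = ⊥ := by
      by_contra h2
      have h3 : (chKer χ ⊓ K) ⊓ M = ⊥ := by
        rw [inf_assoc, hKM, inf_bot_eq]
      obtain ⟨-, h4⟩ := card_of_compl hn M e (chKer χ ⊓ K) h2 h3
      have h5 : chKer χ ⊓ K = K := Subgroup.eq_of_le_of_card_ge inf_le_right (by rw [h4, hcK])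
      exact hχK (inf_eq_right.1 h5)
    have hcom : ∀ (A B : Subgroup G), A.Normal → B.Normal → A ⊓ B = ⊥ → ∀ a ∈ A, ∀ b ∈ B, a * b = b * a := by
      intro A B hA hB hAB a ha b hb
      exact Subgroup.commute_of_normal_of_disjoint A B hA hB (disjoint_iff.2 hAB) a b ha hb
    have hcen : chKer χ ≤ center G := by
      intro x hx
      have h2 : (⊤ : Subgroup G) ≤ centralizer ({x} : Set G) := by
        rw [← hT]
        apply sup_le
        · intro k hk
          rw [mem_centralizer_singleton_iff]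
          exact (hcom _ _ inferInstance hK hLK x hx k hk).symm
        · intro k hk
          rw [mem_centralizer_singleton_iff]
          exact (hcom _ _ inferInstance hM hLM x hx k hk).symm
      rw [Subgroup.mem_center_iff]
      intro g
      exact mem_centralizer_singleton_iff.1 (h2 (mem_top g))
    have := simple_alt hn
    have h2 := perfect_quot (K := M) hp
    have h3 : commutator (G ⧸ M) = ⊥ := by
      rw [commutator_eq_bot_iff_center_eq_top, eq_top_iff]
      intro x _
      obtain ⟨g, rfl⟩ := QuotientGroup.mk_surjective x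
      have h4 : g ∈ chKer χ ⊔ M := by rw [hLT]; exact mem_top g
      obtain ⟨a, ha, b, hb, rfl⟩ := Subgroup.mem_sup_of_normal_right.1 h4
      have h5 : ((a * b : G) : G ⧸ M) = (a : G ⧸ M) := by
        rw [QuotientGroup.mk_mul, (QuotientGroup.eq_one_iff b).2 hb, mul_one]
      rw [h5, Subgroup.mem_center_iff]
      intro y
      obtain ⟨c, rfl⟩ := QuotientGroup.mk_surjective y
      rw [← QuotientGroup.mk_mul, ← QuotientGroup.mk_mul, Subgroup.mem_center_iff.1 (hcen ha) c]
    have hnt : Nontrivial (G ⧸ M) := e.toEquiv.nontrivial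
    rw [h2] at h3
    exact top_ne_bot h3

/-- the characters over `M` -/
theorem above (h : CodOK n G)
    (M : Subgroup G) [hM : M.Normal] (e : G ⧸ M ≃* alternatingGroup (Fin n))
    (hu : ∀ K : Subgroup G, K.Normal → K ≠ ⊥ → M ≤ K) (χ : IrrCharacter G) (hχ : ¬ M ≤ chKer χ) :
    ∃ d, ADeg n d ∧ charDegree (χ : G → ℂ) = Nat.card M * d := by
  apply faithful_deg h M e
  · intro h2
    apply hχ
    intro g _
    rw [mem_chKer, h2]
    rfl
  · by_contra h2
    exact hχ (hu _ inferInstance h2)

/-- the sum of the squares over `M` -/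
theorem sum_over (M : Subgroup G) [hM : M.Normal] (e : G ⧸ M ≃* alternatingGroup (Fin n)) [Fintype (IrrCharacter G)]
    [DecidablePred fun χ : IrrCharacter G => M ≤ chKer χ] :
    ∑ χ ∈ (Finset.univ.filter fun χ : IrrCharacter G => ¬ M ≤ chKer χ), charDegree (χ : G → ℂ) ^ 2 =
      aN n * (Nat.card M - 1) := by
  classical
  have h2 := sum_deg_sq (G := G)
  rw [← Finset.sum_filter_add_sum_filter_not Finset.univ (fun χ : IrrCharacter G => M ≤ chKer χ), sum_sq_ker M] at h2
  have hqM : Nat.card (G ⧸ M) = aN n := Nat.card_congr e.toEquiv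
  rw [hqM, card_eq M e] at h2
  have h3 : 0 < Nat.card M := Nat.card_pos
  obtain ⟨m, hm⟩ : ∃ m, Nat.card M = m + 1 := ⟨Nat.card M - 1, by omega⟩
  rw [hm, Nat.add_sub_cancel]
  rw [hm] at h2
  nlinarith

/-- `|M|² ∣ |A_n|` -/
theorem sq_dvd (h : CodOK n G)
    (M : Subgroup G) [hM : M.Normal] (e : G ⧸ M ≃* alternatingGroup (Fin n))
    (hu : ∀ K : Subgroup G, K.Normal → K ≠ ⊥ → M ≤ K) : Nat.card M ^ 2 ∣ aN n := by
  classical
  have := finite_irr (G := G)
  have := Fintype.ofFinite (IrrCharacter G)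
  have h1 : Nat.card M ^ 2 ∣
      ∑ χ ∈ (Finset.univ.filter fun χ : IrrCharacter G => ¬ M ≤ chKer χ), charDegree (χ : G → ℂ) ^ 2 := by
    apply Finset.dvd_sum
    intro χ hχ
    obtain ⟨d, -, hd⟩ := above h M e hu χ (Finset.mem_filter.1 hχ).2
    rw [hd, mul_pow]
    exact Dvd.intro _ rfl
  rw [sum_over M e] at h1
  refine Nat.Coprime.dvd_of_dvd_mul_right ?_ h1
  apply Nat.Coprime.pow_left
  have h2 : 1 ≤ Nat.card M := Nat.card_pos
  rw [Nat.coprime_comm]
  exact (Nat.coprime_self_sub_left h2).2 (Nat.coprime_one_left _)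

end Cfsg.Agent.H495.Cod
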