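import Cfsg.Agent.H495.Cod.Basic
import Cfsg.Agent.OrdDiv.Table
import Cfsg.Agent.PreUniq.Cases
import Cfsg.Agent.H167.HasStLie
import Cfsg.Agent.H131.LieList
import Cfsg.Agent.H131.L34Elim
import Cfsg.Agent.S0243
import Cfsg.Agent.H704.Enum

/-!
# Codegrees inside the codegrees of an alternating group (helper495, S4941): simple groups of Lie type

* `lie_case` : a group of Lie type with the codegrees of `A_n` is `A_n`
* `spor_card` : the orders of the sporadic groups and of the Tits group
-/

set_option autoImplicit false
set_option linter.unusedSectionVars false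

universe u v

namespace Cfsg.Agent.H495.Cod

open Cfsg Cfsg.Agent.Characters.Core Cfsg.Agent.H686.CharKit Subgroup
open Cfsg.Agent.H704 (IsDeg)

theorem aN_seven : aN 7 = 2520 := by
  have h1 := two_mul_aN (n := 7) (by norm_num)
  have h2 : Nat.factorial 7 = 5040 := rfl
  omega

theorem aN_eight : aN 8 = 20160 := by
  have h1 := two_mul_aN (n := 8) (by norm_num)
  have h2 : Nat.factorial 8 = 40320 := rfl
  omega

theorem card_psl34 {K : Type} [Field K] [Fintype K] (hK : Fintype.card K = 4) :
    Nat.card (Matrix.ProjectiveSpecialLinearGroup (Fin 3) K) = 20160 := by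
  have h := S0243.result (F := K) hK 3 (by norm_num)
  rw [Fin.prod_univ_three] at h
  norm_num at h
  omega

theorem lie_case {n : ℕ} (hn : 5 ≤ n) {S : Type u} [Group S] [Finite S] [IsSimpleGroup S] {p : ℕ} (hp : p.Prime)
    (h : IsLieTypeChar p S) (hc : CodOK n S) : Nonempty (S ≃* alternatingGroup (Fin n)) := by
  obtain ⟨k, hk, hd⟩ := hc.simple
  have hS0 : Nat.card S ≠ 0 := Nat.card_pos.ne'
  have h2 := two_mul_aN (n := n) (by omega)
  have hcube : Nat.card S < (ordProj[p] (Nat.card S)) ^ 3 := by
    by_cases hp2 : p = 2
    · subst hp2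
      exact Cfsg.Agent.H131.CharTwo.card_lt_cube_two h
    · exact Cfsg.Agent.OrdCrit.card_lt_cube hp hp2 h
  obtain ⟨χ, hχ, hχ1, -⟩ := H167.StChar.hasSt_of_lie hp h
  set s := p ^ (Nat.card S).factorization p with hs
  have hs1 : 1 < s := by
    rcases Nat.lt_or_ge 1 s with h1 | h1
    · exact h1
    · exfalso
      have h3 : s ^ 3 ≤ 1 := by
        calc s ^ 3 ≤ 1 ^ 3 := Nat.pow_le_pow_left h1 3
          _ = 1 := one_pow 3
      have h4 : 0 < Nat.card S := Nat.card_pos
      omega
  have hdeg : charDegree χ = s := by
    rw [charDegree, hχ1, Complex.natCast_re, Nat.floor_natCast]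
  have hne : χ ≠ 1 := by
    rintro rfl
    rw [charDegree_one] at hdeg
    omega
  have h3 := hd ⟨χ, hχ⟩ hne
  have h4 : ADeg n (k * s) := by rw [← hdeg]; exact h3
  obtain ⟨-, h5, -, h6⟩ := h4.facts hn
  have hk0 : 0 < k := by
    rcases Nat.eq_zero_or_pos k with h0 | h0
    · rw [h0, zero_mul] at hk
      exact absurd hk (aN_pos n).ne'
    · exact h0
  have h7 : k * s ^ 2 < Nat.card S := by
    have : k * (k * s ^ 2) < k * Nat.card S := by
      rw [← hk]
      calc k * (k * s ^ 2) = k * s * (k * s) := by ring
        _ < aN n := h5
    exact Nat.lt_of_mul_lt_mul_left this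
  rcases H131.LieList.lie_list hn hp h ⟨k, by rw [← h2, hk]; ring⟩ (by
      rw [← hs, ← h2, hk]
      calc 2 * (k * Nat.card S) * s ^ 2 = 2 * Nat.card S * (k * s ^ 2) := by ring
        _ < 2 * Nat.card S * Nat.card S := Nat.mul_lt_mul_of_pos_left h7 (by have := Nat.card_pos (α := S); omega)
        _ = 2 * Nat.card S ^ 2 := by ring) with h8 | ⟨rfl, rfl, h8⟩ | ⟨rfl, F, _, _, hF, ⟨e⟩⟩
  · exact h8
  · exfalso
    rw [aN_seven, h8] at hk
    have hk5 : k = 5 := by omega
    have hs8 : s = 8 := by
      rw [hs, h8]
      have : Nat.factorization 504 2 = 3 := by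
        rw [show 504 = 2 ^ 3 * 63 by norm_num, Nat.factorization_mul (by norm_num) (by norm_num), Nat.factorization_pow]
        simp [Nat.prime_two.factorization_self, Nat.factorization_eq_zero_of_not_dvd]
      rw [this]
      norm_num
    rw [hk5, hs8] at h6
    rcases h6 with h6 | h6 <;> have := H704.deg7 h6 <;> revert this <;> decide
  · exfalso
    rw [aN_eight, Nat.card_congr e.toEquiv, card_psl34 hF] at hk
    have hk1 : k = 1 := by omega
    refine H131.L34Elim.l34_elim hF e fun ψ hψ => ?_
    by_cases hψ1 : ψ = 1
    · exact ⟨1, by simp, by rw [hψ1]; simp⟩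
    · have h9 := hd ⟨ψ, hψ⟩ hψ1
      rw [hk1, one_mul] at h9
      obtain ⟨h10, h11, h12, h13⟩ := h9.facts hn
      refine ⟨charDegree ψ, ?_, (charDegree_cast (isIrr_isCharacter hψ)).symm⟩
      have h14 : ∀ d, IsDeg 8 d → d ∈ [1, 7, 14, 20, 21, 28, 35, 42, 56, 64, 70, 90] := fun d => H704.deg8
      change 1 < charDegree ψ at h10
      change IsDeg 8 (charDegree ψ) ∨ IsDeg 8 (2 * charDegree ψ) at h13
      generalize charDegree ψ = d at *
      rcases h13 with h13 | h13
      · have := h14 _ h13
        simp only [List.mem_cons, List.not_mem_nil, or_false] at this ⊢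
        omega
      · have := h14 _ h13
        simp only [List.mem_cons, List.not_mem_nil, or_false] at this ⊢
        omega

/-- the orders of the sporadic groups and of the Tits group -/
theorem spor_card {S : Type u} [Group S] (h : Lie.IsoTits S ∨ IsSporadicGroup S) :
    Nat.card S ∈ [7920, 95040, 443520, 10200960, 244823040, 175560, 604800, 50232960, 86775571046077562880,
      4157776806543360000, 42305421312000, 495766656000, 898128000, 44352000, 448345497600, 4030387200, 145926144000,
      460815505920, 51765179004000000, 64561751654400, 4089470473293004800, 1255205709190661721292800,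
      273030912000000, 90745943887872000, 4154781481226426191177580544000000,
      808017424794512875886459904961710757005754368000000000, 17971200] := by
  have key : ∀ (g : OrdDiv.Grp), g ∈ OrdDiv.spor.map (fun x => x.1) → OrdDiv.Real g S → ∃ x ∈ OrdDiv.spor, Nat.card S = x.2 :=
    fun g hg hr => by
      obtain ⟨x, hx, rfl⟩ := List.mem_map.1 hg
      exact ⟨x, hx, OrdDiv.table_spor S x hx hr⟩
  have h1 : ∃ x ∈ OrdDiv.spor, Nat.card S = x.2 := by
    rcases h with h | h
    · exact key .tits (by decide) h
    rcases h with h | h | h | h | h | h | h | h | h | h | h | h | h | h | h | h | h | h | h | h | h | h | h | h | h | h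
    · exact key .m11 (by decide) h
    · exact key .m12 (by decide) h
    · exact key .m22 (by decide) h
    · exact key .m23 (by decide) h
    · exact key .m24 (by decide) h
    · exact key .j1 (by decide) h
    · exact key .j2 (by decide) h
    · exact key .j3 (by decide) h
    · exact key .j4 (by decide) h
    · exact key .co1 (by decide) h
    · exact key .co2 (by decide) h
    · exact key .co3 (by decide) h
    · exact key .mcl (by decide) h
    · exact key .hs (by decide) h
    · exact key .suz (by decide) h
    · exact key .he (by decide) h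
    · exact key .ru (by decide) h
    · exact key .on (by decide) h
    · exact key .ly (by decide) h
    · exact key .fi22 (by decide) h
    · exact key .fi23 (by decide) h
    · exact key .fi24 (by decide) h
    · exact key .hn (by decide) h
    · exact key .th (by decide) h
    · exact key .b (by decide) h
    · exact key .m (by decide) h
  obtain ⟨x, hx, h2⟩ := h1
  rw [h2]
  have h3 : ∀ x ∈ OrdDiv.spor, x.2 ∈ [7920, 95040, 443520, 10200960, 244823040, 175560, 604800, 50232960, 86775571046077562880,
      4157776806543360000, 42305421312000, 495766656000, 898128000, 44352000, 448345497600, 4030387200, 145926144000,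
      460815505920, 51765179004000000, 64561751654400, 4089470473293004800, 1255205709190661721292800,
      273030912000000, 90745943887872000, 4154781481226426191177580544000000,
      808017424794512875886459904961710757005754368000000000, 17971200] := by decide +kernel
  exact h3 x hx

/-- the sporadic groups behind five orders -/
theorem spor_of_card {S : Type u} [Group S] (h : Lie.IsoTits S ∨ IsSporadicGroup S)
    (hc : Nat.card S ∈ [604800, 44352000, 898128000, 448345497600, 64561751654400]) :
    Spor.IsoJ2 S ∨ Spor.IsoHS S ∨ Spor.IsoMcL S ∨ Spor.IsoSuz S ∨ Spor.IsoFi22 S := by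
  have key : ∀ (g : OrdDiv.Grp), (∃ m, (g, m) ∈ OrdDiv.spor ∧ m ∉ [604800, 44352000, 898128000, 448345497600, 64561751654400]) →
      ¬ OrdDiv.Real g S := by
    rintro g ⟨m, hm, hm'⟩ hr
    rw [OrdDiv.table_spor S _ hm hr] at hc
    exact hm' hc
  rcases h with h | h
  · exact absurd h (key .tits ⟨17971200, by decide +kernel, by decide +kernel⟩)
  rcases h with h | h | h | h | h | h | h | h | h | h | h | h | h | h | h | h | h | h | h | h | h | h | h | h | h | h
  · exact absurd h (key .m11 ⟨7920, by decide +kernel, by decide +kernel⟩)
  · exact absurd h (key .m12 ⟨95040, by decide +kernel, by decide +kernel⟩)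
  · exact absurd h (key .m22 ⟨443520, by decide +kernel, by decide +kernel⟩)
  · exact absurd h (key .m23 ⟨10200960, by decide +kernel, by decide +kernel⟩)
  · exact absurd h (key .m24 ⟨244823040, by decide +kernel, by decide +kernel⟩)
  · exact absurd h (key .j1 ⟨175560, by decide +kernel, by decide +kernel⟩)
  · exact Or.inl h
  · exact absurd h (key .j3 ⟨50232960, by decide +kernel, by decide +kernel⟩)
  · exact absurd h (key .j4 ⟨86775571046077562880, by decide +kernel, by decide +kernel⟩)
  · exact absurd h (key .co1 ⟨4157776806543360000, by decide +kernel, by decide +kernel⟩)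
  · exact absurd h (key .co2 ⟨42305421312000, by decide +kernel, by decide +kernel⟩)
  · exact absurd h (key .co3 ⟨495766656000, by decide +kernel, by decide +kernel⟩)
  · exact Or.inr (Or.inr (Or.inl h))
  · exact Or.inr (Or.inl h)
  · exact Or.inr (Or.inr (Or.inr (Or.inl h)))
  · exact absurd h (key .he ⟨4030387200, by decide +kernel, by decide +kernel⟩)
  · exact absurd h (key .ru ⟨145926144000, by decide +kernel, by decide +kernel⟩)
  · exact absurd h (key .on ⟨460815505920, by decide +kernel, by decide +kernel⟩)
  · exact absurd h (key .ly ⟨51765179004000000, by decide +kernel, by decide +kernel⟩)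
  · exact Or.inr (Or.inr (Or.inr (Or.inr h)))
  · exact absurd h (key .fi23 ⟨4089470473293004800, by decide +kernel, by decide +kernel⟩)
  · exact absurd h (key .fi24 ⟨1255205709190661721292800, by decide +kernel, by decide +kernel⟩)
  · exact absurd h (key .hn ⟨273030912000000, by decide +kernel, by decide +kernel⟩)
  · exact absurd h (key .th ⟨90745943887872000, by decide +kernel, by decide +kernel⟩)
  · exact absurd h (key .b ⟨4154781481226426191177580544000000, by decide +kernel, by decide +kernel⟩)
  · exact absurd h (key .m ⟨808017424794512875886459904961710757005754368000000000, by decide +kernel, by decide +kernel⟩)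

end Cfsg.Agent.H495.Cod
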