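import Cfsg.Agent.H495.Cod.Reduce
import Cfsg.Agent.H495.Cod.Simple
import Cfsg.Agent.Schreier.Assembly
import Cfsg.Agent.S0205
import Cfsg.Agent.H352.Cod.Numeric
import Cfsg.Agent.H352.Cod.Pair
import Cfsg.Agent.H462.Cod.AltElim
import Cfsg.Agent.H462.Cod.CentralThree

/-!
# Codegrees inside the codegrees of an alternating group (helper495, S4941): the assembly
-/

set_option autoImplicit false
set_option linter.unusedSectionVars false

universe u v

namespace Cfsg.Agent.H495.Cod

open Cfsg Cfsg.Agent.Characters.Core Cfsg.Agent.H686.CharKit Subgroup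
open Cfsg.Agent.H704 (IsDeg)

theorem simple_iso {n : ℕ} (hn : 5 ≤ n) {S : Type u} [Group S] [Finite S] [IsSimpleGroup S]
    (hS : ¬ ∀ a b : S, a * b = b * a) (hK : IsKnownSimple' S) (h : CodOK n S) :
    Nonempty (S ≃* alternatingGroup (Fin n)) := by
  have hspor : (Lie.IsoTits S ∨ IsSporadicGroup S) → Nonempty (S ≃* alternatingGroup (Fin n)) := by
    intro h1
    exfalso
    obtain ⟨k, hk, hd⟩ := h.simple
    have h2 := H352.Cod.spor_numeric hn hS (spor_card h1) hk hd
    have h3 : Nat.card S ∈ [604800, 44352000, 898128000, 448345497600, 64561751654400] := by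
      simp only [List.mem_cons, List.not_mem_nil, or_false, Prod.mk.injEq] at h2 ⊢
      omega
    exact H352.Cod.rank3_elim (spor_of_card h1 h3) h2 hk hd
  rcases PreUniq.known_cases hK with h1 | h1 | ⟨p, hp, h1⟩ | h1 | h1
  · exfalso
    have : Fact (Nat.card S).Prime := ⟨h1⟩
    have : IsCyclic S := isCyclic_of_prime_card (p := Nat.card S) rfl
    exact hS fun a b => (IsCyclic.isMulCommutative (α := S)).is_comm.comm a b
  · obtain ⟨m, hm, ⟨e⟩⟩ := h1
    have hA : CodOK n (alternatingGroup (Fin m)) := h.of_surj e.toMonoidHom e.surjective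
    have := simple_alt hm
    obtain ⟨k, hk, hd⟩ := hA.simple
    rcases lt_trichotomy m n with h2 | h2 | h2
    · exfalso
      refine H462.Cod.alt_elim (n := n) (m := m) (k := k) hm h2 hk fun d hd' => ?_
      obtain ⟨θ, hθ, rfl⟩ := hd'
      exact hd θ hθ
    · subst h2
      exact ⟨e⟩
    · exfalso
      have h3 := two_mul_aN (n := n) (by omega)
      have h4 := two_mul_aN (n := m) (by omega)
      have h5 : n.factorial < m.factorial := Nat.factorial_lt_of_lt (by omega) h2
      have hk' : aN n = k * aN m := hk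
      have h6 : 0 < k := by
        rcases Nat.eq_zero_or_pos k with h0 | h0
        · rw [h0, zero_mul] at hk'
          exact absurd hk' (aN_pos n).ne'
        · exact h0
      have h7 : 1 * aN m ≤ k * aN m := Nat.mul_le_mul_right _ h6
      omega
  · exact lie_case hn hp h1 h
  · exact hspor (Or.inl h1)
  · exact hspor (Or.inr h1)

theorem even_card (K : Type u) [Group K] [Finite K] [IsSimpleGroup K] (h : ¬ IsMulCommutative K) : 2 ∣ Nat.card K := by
  by_contra hne
  have h1 : Odd (Nat.card K) := by
    rw [← Nat.not_even_iff_odd, even_iff_two_dvd]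
    exact hne
  have h2 := S0205.result h1
  apply h
  exact ⟨⟨fun a b => IsSimpleGroup.comm_iff_isSolvable.2 h2 a b⟩⟩

theorem main {n : ℕ} (hn : 5 ≤ n) {G : Type u} [Group G] [Finite G] [Nontrivial G]
    (hcl : ∀ (K : Type u) [Group K] [Finite K] [IsSimpleGroup K], IsKnownSimple' K) (h : CodOK n G) :
    Nonempty (G ≃* alternatingGroup (Fin n)) :=
  reduce hn h (fun S _ _ _ hS hSc => simple_iso hn hS (hcl S) hSc)
    (fun K _ _ _ hK => Schreier.Assembly.known K hK (hcl K)) (fun K _ _ _ hK => even_card K hK)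
    (fun hn6 _ _ _ M _ e hMc hcard hab => H462.Cod.central_three hn6 M e hMc hcard hab)

end Cfsg.Agent.H495.Cod
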