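import Cfsg.Agent.H495.Cod.Kernel
import Cfsg.Agent.H794.SocleCount
import Cfsg.Agent.H310.PerfTools
import Cfsg.Agent.H189.FeitTits
import Cfsg.Agent.Lib.MinNormalNonabelian

/-!
# Codegrees inside the codegrees of an alternating group (helper495, S4941): `M` is central

* `nonab_false` : `M` is abelian
* `noncentral_false` : `M` is central
-/

set_option autoImplicit false
set_option linter.unusedSectionVars false

universe u v

namespace Cfsg.Agent.H495.Cod

open Cfsg Cfsg.Agent.Characters.Core Cfsg.Agent.H686.CharKit Subgroup

variable {n : ℕ} {G : Type u} [Group G] [Finite G]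

theorem not_two_pow {n k : ℕ} (hn : n ≠ 0) (hk : n ≤ k) : ¬ 2 ^ k ∣ n.factorial := by
  intro h
  have h1 := Nat.emultiplicity_two_factorial_lt hn
  have h2 := le_emultiplicity_of_pow_dvd h
  have h3 := lt_of_le_of_lt h2 h1
  have h4 : k < n := by exact_mod_cast h3
  omega

theorem nonab_false (hn : 5 ≤ n) (hp : commutator G = ⊤)
    (hSch : ∀ (K : Type u) [Group K] [Finite K] [IsSimpleGroup K], ¬ IsMulCommutative K → Cfsg.Agent.Schreier.Basic.Sch K)
    (hev : ∀ (K : Type u) [Group K] [Finite K] [IsSimpleGroup K], ¬ IsMulCommutative K → 2 ∣ Nat.card K)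
    (M : Subgroup G) [hM : M.Normal] (e : G ⧸ M ≃* alternatingGroup (Fin n))
    (hmin : ∀ L : Subgroup G, L.Normal → L ≤ M → L = ⊥ ∨ L = M)
    (hu : ∀ K : Subgroup G, K.Normal → K ≠ ⊥ → M ≤ K) (hsq : Nat.card M ^ 2 ∣ aN n)
    (hna : ¬ ∀ x ∈ M, ∀ y ∈ M, Commute x y) : False := by
  classical
  obtain ⟨m, T, φ, hc⟩ := H794.SocleCount.exists_coord M hmin hna
  have hex := hc.exists_perm
  choose s hs using hex
  have hmul : ∀ a b, s (a * b) = s a * s b := by
    intro a b
    ext1 i
    apply hc.inj
    rw [Equiv.Perm.mul_apply, hs, hs, hs, Subgroup.map_map]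
    congr 1
    ext x
    simp [mul_assoc]
  let f : G →* Equiv.Perm (Fin m) := MonoidHom.mk' s hmul
  have hfs : ∀ g, f g = s g := fun g => rfl
  have hMf : M ≤ f.ker := by
    intro x hx
    rw [MonoidHom.mem_ker, hfs]
    ext1 i
    have := hc.simple i
    obtain ⟨t, ht⟩ := exists_ne (1 : T i)
    have h1 : x * (t : G) * x⁻¹ ∈ T (s x i) := by
      rw [hs]
      exact ⟨t, t.2, rfl⟩
    have h2 : x * (t : G) * x⁻¹ ∈ T i := by
      have h3 : φ.symm (Pi.mulSingle i ((φ ⟨x, hx⟩) i * t * ((φ ⟨x, hx⟩) i)⁻¹)) =
          ⟨x, hx⟩ * φ.symm (Pi.mulSingle i t) * ⟨x, hx⟩⁻¹ := by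
        apply φ.injective
        rw [map_mul, map_mul, map_inv, MulEquiv.apply_symm_apply, MulEquiv.apply_symm_apply]
        funext j
        by_cases hj : j = i
        · subst hj
          simp
        · simp [Pi.mulSingle_eq_of_ne hj]
      have h4 := congrArg (Subtype.val) h3
      rw [hc.single] at h4
      have h5 : ((⟨x, hx⟩ * φ.symm (Pi.mulSingle i t) * ⟨x, hx⟩⁻¹ : M) : G) = x * (t : G) * x⁻¹ := by
        rw [Subgroup.coe_mul, Subgroup.coe_mul, hc.single]
        rfl
      rw [h5] at h4
      rw [← h4]
      exact SetLike.coe_mem _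
    refine (hc.disj h2 h1 ?_).symm
    intro h3
    apply ht
    apply Subtype.ext
    rw [mul_inv_eq_one] at h3
    exact mul_left_cancel (h3.trans (mul_one x).symm)
  have hnt : Nontrivial (alternatingGroup (Fin n)) := by
    have := simple_alt hn
    infer_instance
  have hMne : M ≠ ⊤ := by
    intro h
    have h1 : Subsingleton (G ⧸ M) := by rw [h]; exact QuotientGroup.subsingleton_quotient_top
    exact (not_subsingleton_iff_nontrivial.2 e.toEquiv.nontrivial) h1
  by_cases hk : f.ker ≤ M
  · -- `G / M` acts faithfully on the components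
    have hk' : f.ker = M := le_antisymm hk hMf
    have h1 : aN n ≤ m.factorial := by
      have h2 : Nat.card (G ⧸ f.ker) ≤ Nat.card (Equiv.Perm (Fin m)) :=
        Nat.card_le_card_of_injective _ (QuotientGroup.kerLift_injective f)
      rw [Nat.card_perm, Nat.card_fin] at h2
      have h3 : Nat.card (G ⧸ f.ker) = aN n := by
        rw [← Subgroup.index_eq_card, hk', Subgroup.index_eq_card, Nat.card_congr e.toEquiv]
        rfl
      rwa [h3] at h2
    have hmn : n ≤ m := by
      by_contra hne
      have h2 : m.factorial ≤ (n - 1).factorial := Nat.factorial_le (by omega)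
      have h3 : n.factorial = n * (n - 1).factorial := (Nat.mul_factorial_pred (by omega)).symm
      have h4 := two_mul_aN (n := n) (by omega)
      have h5 := Nat.factorial_pos (n - 1)
      have h6 : 5 * (n - 1).factorial ≤ n * (n - 1).factorial := Nat.mul_le_mul_right _ hn
      omega
    have h2 : 2 ^ m ∣ Nat.card M := by
      rw [Nat.card_congr φ.toEquiv, Nat.card_pi]
      have h3 : ∏ _i : Fin m, 2 = 2 ^ m := by simp
      rw [← h3]
      apply Finset.prod_dvd_prod_of_dvd
      intro i _
      have := hc.simple i
      apply hev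
      intro hcm
      obtain ⟨a, b, hab⟩ := hc.nc i
      exact hab (hcm.is_comm.comm a b)
    have h3 : 2 ^ (m * 2) ∣ n.factorial := by
      rw [← two_mul_aN (by omega), pow_mul]
      exact ((pow_dvd_pow_of_dvd h2 2).trans hsq).trans (Dvd.intro_left 2 rfl)
    exact not_two_pow (by omega) (by omega) h3
  · -- one component
    have hk' : f.ker = ⊤ := by
      have h1 := sup_eq_top hn M e f.ker hk
      rwa [sup_eq_left.2 hMf] at h1
    have hij : ∀ i j : Fin m, i = j := by
      intro i j
      obtain ⟨g, hg⟩ := hc.trans i j
      have h1 : g ∈ f.ker := by rw [hk']; exact mem_top g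
      rw [MonoidHom.mem_ker, hfs] at h1
      have h2 := hs g i
      rw [h1, ← hg] at h2
      exact hc.inj h2
    have h0 : Fin m := ⟨0, hc.pos⟩
    have huq : Unique (Fin m) := ⟨⟨h0⟩, fun i => hij i _⟩
    let i0 : Fin m := default
    have hsimT := hc.simple i0
    let E : M ≃* T i0 := φ.trans (MulEquiv.piUnique (fun i => T i))
    have hsM : IsSimpleGroup M := E.isSimpleGroup
    have hcM : ¬ IsMulCommutative M := by
      intro hcm
      apply hna
      intro x hx y hy
      exact congrArg Subtype.val (hcm.is_comm.comm (⟨x, hx⟩ : M) ⟨y, hy⟩)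
    have hC : centralizer (M : Set G) = ⊥ := by
      by_contra hne
      have h1 := hu _ inferInstance hne
      apply hna
      intro x hx y hy
      exact (mem_centralizer_iff.1 (h1 hy) x hx)
    exact hMne (H310.PerfTools.eq_top_of_schreier hp M hC (hSch M hcM))

theorem quot_ne_top (hn : 5 ≤ n) (M : Subgroup G) [M.Normal] (e : G ⧸ M ≃* alternatingGroup (Fin n)) : M ≠ ⊤ := by
  have hnt : Nontrivial (alternatingGroup (Fin n)) := by
    have := simple_alt hn
    infer_instance
  intro h
  have h1 : Subsingleton (G ⧸ M) := by rw [h]; exact QuotientGroup.subsingleton_quotient_top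
  exact (not_subsingleton_iff_nontrivial.2 e.toEquiv.nontrivial) h1

/-- the action on an abelian normal subgroup -/
def act (M : Subgroup G) [M.Normal] (hab : ∀ x ∈ M, ∀ y ∈ M, Commute x y) :
    letI : CommGroup M := { (inferInstance : Group M) with mul_comm := fun a b => Subtype.ext (hab a a.2 b b.2) }
    G →* AddMonoid.End (Additive M) :=
  letI : CommGroup M := { (inferInstance : Group M) with mul_comm := fun a b => Subtype.ext (hab a a.2 b b.2) }
  { toFun := fun g => (MulAut.conjNormal g : MulAut M).toMonoidHom.toAdditive
    map_one' := by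
      ext x
      simp
      rfl
    map_mul' := fun a b => by
      ext x
      simp
      rfl }

theorem act_apply (M : Subgroup G) [M.Normal] (hab : ∀ x ∈ M, ∀ y ∈ M, Commute x y) (g : G) (x : M) :
    ((Additive.toMul (act M hab g (Additive.ofMul x)) : M) : G) = g * x * g⁻¹ := rfl

theorem noncentral_false (hn : 5 ≤ n) (M : Subgroup G) [hM : M.Normal] (e : G ⧸ M ≃* alternatingGroup (Fin n)) (hM1 : M ≠ ⊥)
    (hmin : ∀ L : Subgroup G, L.Normal → L ≤ M → L = ⊥ ∨ L = M) (hsq : Nat.card M ^ 2 ∣ aN n)
    (hab : ∀ x ∈ M, ∀ y ∈ M, Commute x y) (hnc : ¬ M ≤ center G) : False := by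
  classical
  have hC : centralizer (M : Set G) ≤ M := by
    by_contra hne
    have h1 := sup_eq_top hn M e _ hne
    have h2 : M ≤ centralizer (M : Set G) := by
      intro x hx
      rw [mem_centralizer_iff]
      intro y hy
      exact hab y hy x hx
    rw [sup_eq_left.2 h2] at h1
    apply hnc
    intro x hx
    rw [Subgroup.mem_center_iff]
    intro g
    have h3 : g ∈ centralizer (M : Set G) := by rw [h1]; exact mem_top g
    exact (mem_centralizer_iff.1 h3 x hx).symm
  obtain ⟨q, hq, -, hqM⟩ := Lib.MinNormalNonabelian.abelian_structure M hM1 hmin hab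
  have := Fact.mk hq
  letI : CommGroup M := { (inferInstance : Group M) with mul_comm := fun a b => Subtype.ext (hab a a.2 b b.2) }
  obtain ⟨m, θ, hm, hθ⟩ := H189.FeitTits.exists_mod (E := Additive M) q (fun a => by
    have h1 := hqM (Additive.toMul a : M) (Additive.toMul a : M).2
    apply Additive.toMul.injective
    apply Subtype.ext
    simpa using h1) (act M hab)
  have hmM : q ^ m = Nat.card M := hm
  have hker : ∀ g, θ g = 1 → g ∈ M := by
    intro g hg
    apply hC
    rw [mem_centralizer_iff]
    intro x hx
    have h1 := hθ g hg (Additive.ofMul ⟨x, hx⟩)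
    have h2 : ((Additive.toMul (act M hab g (Additive.ofMul ⟨x, hx⟩)) : M) : G) = x := by rw [h1]; rfl
    rw [act_apply] at h2
    exact (mul_inv_eq_iff_eq_mul.1 h2).symm
  by_cases h9 : 9 ≤ n
  · let ρ : G →* Module.End (ZMod q) (Fin m → ZMod q) :=
      (Matrix.toLinAlgEquiv' : Matrix (Fin m) (Fin m) (ZMod q) ≃ₐ[ZMod q] _).toAlgHom.toRingHom.toMonoidHom.comp θ
    have h1 := H189.FeitTits.feit_tits q h9 (e.toMonoidHom.comp (QuotientGroup.mk' M))
      (e.surjective.comp (QuotientGroup.mk'_surjective M)) ρ (by
        intro g hg
        have h2 : θ g = 1 := by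
          apply (Matrix.toLinAlgEquiv' : Matrix (Fin m) (Fin m) (ZMod q) ≃ₐ[ZMod q] _).injective
          rw [map_one]
          exact hg
        have h3 := hker g h2
        show e (QuotientGroup.mk' M g) = 1
        rw [QuotientGroup.mk'_apply, (QuotientGroup.eq_one_iff g).2 h3, map_one])
    rw [Module.finrank_fin_fun] at h1
    have h2 : n - 2 ≤ m := le_trans (by split_ifs <;> omega) h1
    have h3 : q ^ (m * 2) ∣ n.factorial := by
      rw [← two_mul_aN (by omega), pow_mul, hmM]
      exact hsq.trans (Dvd.intro_left 2 rfl)
    have h4 : q ^ n ∣ n.factorial := (pow_dvd_pow q (by omega)).trans h3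
    have h5 := Nat.emultiplicity_two_factorial_lt (n := n) (by omega)
    have h6 := sub_one_mul_padicValNat_factorial (p := q) n
    have h7 : n ≤ padicValNat q n.factorial := by
      rw [padicValNat_dvd_iff_le (Nat.factorial_pos n).ne'] at h4
      exact h4
    have h8 : 1 * padicValNat q n.factorial ≤ (q - 1) * padicValNat q n.factorial :=
      Nat.mul_le_mul_right _ (by have := hq.two_le; omega)
    rw [h6] at h8
    have h10 : 0 < (q.digits n).sum := by
      apply Nat.pos_of_ne_zero
      intro h0
      have h12 : n = 0 := by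
        have h13 : ∀ a ∈ q.digits n, a = 0 := fun a ha => List.sum_eq_zero_iff.1 h0 a ha
        have h14 := Nat.ofDigits_digits q n
        rw [← h14]
        have h15 : q.digits n = [] := by
          by_contra hne
          have h16 := Nat.getLast_digit_ne_zero q (m := n) (by omega)
          exact h16 (h13 _ (List.getLast_mem _))
        rw [h15]
        rfl
      omega
    omega
  · -- small degrees
    have hsmall : aN n ≤ (Nat.card M - 1).factorial := by
      let X := {x : M // x ≠ 1}
      have hfin : Finite X := inferInstance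
      let α : G →* Equiv.Perm X :=
        { toFun := fun g =>
            { toFun := fun x => ⟨MulAut.conjNormal g x.1, fun h => x.2 (by
                have := (MulAut.conjNormal g : MulAut M).injective (h.trans (map_one _).symm)
                exact this)⟩
              invFun := fun x => ⟨MulAut.conjNormal g⁻¹ x.1, fun h => x.2 (by
                have := (MulAut.conjNormal g⁻¹ : MulAut M).injective (h.trans (map_one _).symm)
                exact this)⟩
              left_inv := fun x => by
                apply Subtype.ext
                apply Subtype.ext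
                simp
              right_inv := fun x => by
                apply Subtype.ext
                apply Subtype.ext
                simp [mul_assoc] }
          map_one' := by
            ext x
            simp
          map_mul' := fun a b => by
            ext x
            simp [mul_assoc] }
      have hα : ∀ g (x : X), (((α g x).1 : M) : G) = g * (x.1 : G) * g⁻¹ := fun g x => rfl
      have hk : α.ker ≤ M := by
        intro g hg
        apply hC
        rw [mem_centralizer_iff]
        intro x hx
        by_cases hx1 : x = 1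
        · subst hx1; simp
        · rw [MonoidHom.mem_ker] at hg
          have h1 := hα g ⟨⟨x, hx⟩, fun h => hx1 (congrArg Subtype.val h)⟩
          rw [hg] at h1
          have h2 : x = g * x * g⁻¹ := h1
          exact eq_mul_inv_iff_mul_eq.1 h2
      have h1 : Nat.card (G ⧸ α.ker) ≤ Nat.card (Equiv.Perm X) :=
        Nat.card_le_card_of_injective _ (QuotientGroup.kerLift_injective α)
      rw [Nat.card_perm] at h1
      have h2 : Nat.card X = Nat.card M - 1 := by
        have := Fintype.ofFinite M
        rw [Nat.card_eq_fintype_card, Nat.card_eq_fintype_card]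
        have h3 := Fintype.card_subtype_compl (fun x : M => x = 1)
        rw [Fintype.card_subtype_eq] at h3
        rw [← h3]
      rw [h2] at h1
      refine le_trans ?_ h1
      have h3 : Nat.card (G ⧸ M) = aN n := Nat.card_congr e.toEquiv
      rw [← h3, ← Subgroup.index_eq_card, ← Subgroup.index_eq_card]
      exact Nat.le_of_dvd (Nat.pos_of_ne_zero α.ker.index_ne_zero_of_finite) (Subgroup.index_dvd_of_le hk)
    have h2 := two_mul_aN (n := n) (by omega)
    have hpp : IsPrimePow (Nat.card M) ∨ Nat.card M = 1 := by
      rw [← hmM]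
      rcases Nat.eq_zero_or_pos m with h0 | h0
      · right; rw [h0, pow_zero]
      · left; exact hq.isPrimePow.pow h0.ne'
    have hc8 : Nat.card M ≤ 8 ∧ (n ≤ 7 → Nat.card M ≤ 6) ∧ (n = 5 → Nat.card M ≤ 2) := by
      generalize Nat.card M = c at hsq hpp hsmall
      have hle : c ^ 2 ≤ aN n := Nat.le_of_dvd (aN_pos n) hsq
      have hn4 : n = 5 ∨ n = 6 ∨ n = 7 ∨ n = 8 := by omega
      rcases hn4 with rfl | rfl | rfl | rfl
      · have h3 : aN 5 = 60 := by have : Nat.factorial 5 = 120 := rfl; omega
        rw [h3] at hsq hle
        have h4 : c ≤ 7 := by nlinarith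
        refine ⟨by omega, fun _ => ?_, fun _ => ?_⟩ <;> interval_cases c <;> revert hsq <;> decide
      · have h3 : aN 6 = 360 := by have : Nat.factorial 6 = 720 := rfl; omega
        rw [h3] at hsq hle
        have h4 : c ≤ 18 := by nlinarith
        refine ⟨?_, fun _ => ?_, fun h => by omega⟩ <;> interval_cases c <;> revert hsq <;> decide
      · have h3 : aN 7 = 2520 := by have : Nat.factorial 7 = 5040 := rfl; omega
        rw [h3] at hsq hle
        have h4 : c ≤ 50 := by nlinarith
        refine ⟨?_, fun _ => ?_, fun h => by omega⟩ <;> interval_cases c <;> revert hsq <;> decide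
      · have h3 : aN 8 = 20160 := by have : Nat.factorial 8 = 40320 := rfl; omega
        rw [h3] at hsq hle
        have h4 : c ≤ 141 := by nlinarith
        refine ⟨?_, fun h => by omega, fun h => by omega⟩
        have h5 : ∀ c ≤ 141, c ^ 2 ∣ 20160 → c ≤ 8 ∨ c = 12 ∨ c = 24 := by decide +kernel
        rcases h5 c h4 hsq with h6 | h6 | h6
        · exact h6
        · subst h6
          rcases hpp with h7 | h7
          · exfalso
            rw [isPrimePow_nat_iff_bounded] at h7
            revert h7
            decide
          · omega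
        · subst h6
          rcases hpp with h7 | h7
          · exfalso
            rw [isPrimePow_nat_iff_bounded] at h7
            revert h7
            decide
          · omega
    have hn4 : n = 5 ∨ n = 6 ∨ n = 7 ∨ n = 8 := by omega
    have hf : ∀ a b : ℕ, a ≤ b → a.factorial ≤ b.factorial := fun a b h => Nat.factorial_le h
    rcases hn4 with rfl | rfl | rfl | rfl
    · have h3 : Nat.factorial 5 = 120 := rfl
      have h4 := hf (Nat.card M - 1) 1 (by omega)
      have h5 : Nat.factorial 1 = 1 := rfl
      omega
    · have h3 : Nat.factorial 6 = 720 := rfl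
      have h4 := hf (Nat.card M - 1) 5 (by omega)
      have h5 : Nat.factorial 5 = 120 := rfl
      omega
    · have h3 : Nat.factorial 7 = 5040 := rfl
      have h4 := hf (Nat.card M - 1) 5 (by omega)
      have h5 : Nat.factorial 5 = 120 := rfl
      omega
    · have h3 : Nat.factorial 8 = 40320 := rfl
      have h4 := hf (Nat.card M - 1) 7 (by omega)
      have h5 : Nat.factorial 7 = 5040 := rfl
      omega

end Cfsg.Agent.H495.Cod
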