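import Cfsg.Agent.H495.Cod.Two
import Cfsg.Agent.S0892

/-!
# Codegrees inside the codegrees of an alternating group (helper495, S4941): reduction to simple groups

* `minimal_false` : `G` with minimal normal subgroup `M` and `G / M = A_n` does not exist
* `reduce` : if every simple group with the codegrees of `A_n` is `A_n`, then every nontrivial one is
-/

set_option autoImplicit false
set_option linter.unusedSectionVars false

universe u v

namespace Cfsg.Agent.H495.Cod

open Cfsg Cfsg.Agent.Characters.Core Cfsg.Agent.H686.CharKit Subgroup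
open Cfsg.Agent.H704 (IsDeg)

variable {n : ℕ} {G : Type u} [Group G] [Finite G]

/-- `M` central -/
theorem central_false (hn : 5 ≤ n) (hp : commutator G = ⊤) (M : Subgroup G) [hM : M.Normal]
    (e : G ⧸ M ≃* alternatingGroup (Fin n)) (hM1 : M ≠ ⊥)
    (hmin : ∀ L : Subgroup G, L.Normal → L ≤ M → L = ⊥ ∨ L = M)
    (hu : ∀ K : Subgroup G, K.Normal → K ≠ ⊥ → M ≤ K) (hsq : Nat.card M ^ 2 ∣ aN n) (hMc : M ≤ center G)
    (hab : ∀ χ : IrrCharacter G, ¬ M ≤ chKer χ → ∃ d : ℕ, ADeg n d ∧ charDegree (χ : G → ℂ) = Nat.card M * d)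
    (h3 : n = 6 ∨ n = 7 → Nat.card M ≠ 3) : False := by
  have hcen : ∀ L : Subgroup G, L ≤ M → L.Normal := by
    intro L hL
    constructor
    intro x hx g
    have h1 := mem_center_iff.1 (hMc (hL hx)) g
    rw [h1]
    simpa using hx
  -- `M` has prime order
  have hprime : (Nat.card M).Prime := by
    have h1 : 1 < Nat.card M := by
      rw [Subgroup.one_lt_card_iff_ne_bot]
      exact hM1
    obtain ⟨q, hq, hqd⟩ := Nat.exists_prime_and_dvd h1.ne'
    have := Fact.mk hq
    obtain ⟨x, hx⟩ := exists_prime_orderOf_dvd_card' (G := M) q hqd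
    have h2 : zpowers (x : G) ≤ M := by
      rw [zpowers_le]
      exact x.2
    rcases hmin _ (hcen _ h2) h2 with h4 | h4
    · exfalso
      rw [zpowers_eq_bot] at h4
      have h5 : x = 1 := Subtype.ext h4
      rw [h5, orderOf_one] at hx
      exact hq.one_lt.ne hx
    · have h5 : Nat.card M = q := by
        rw [← h4, Nat.card_zpowers, ← hx]
        exact orderOf_coe x
      rw [h5]
      exact hq
  by_cases h67 : n = 6 ∨ n = 7
  · have h4 : Nat.card M = 2 ∨ Nat.card M = 3 := by
      generalize Nat.card M = c at hsq hprime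
      have h1 := two_mul_aN (n := n) (by omega)
      rcases h67 with rfl | rfl
      · have h2 : Nat.factorial 6 = 720 := rfl
        have h5 : aN 6 = 360 := by omega
        rw [h5] at hsq
        have h6 : c ≤ 18 := by
          have := Nat.le_of_dvd (by norm_num) hsq
          nlinarith
        interval_cases c <;> revert hsq hprime <;> decide
      · have h2 : Nat.factorial 7 = 5040 := rfl
        have h5 : aN 7 = 2520 := by omega
        rw [h5] at hsq
        have h6 : c ≤ 50 := by
          have := Nat.le_of_dvd (by norm_num) hsq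
          nlinarith
        interval_cases c <;> revert hsq hprime <;> decide
    rcases h4 with h4 | h4
    · exact central_two hn M e hu hMc h4 hab
    · exact h3 h67 h4
  · push Not at h67
    have h4 := S0892.result n (by omega) h67.1 h67.2 M hMc (by rw [hp]; exact le_top) e
    exact central_two hn M e hu hMc (le_antisymm h4 hprime.two_le) hab

theorem minimal_false (hn : 5 ≤ n) (h : CodOK n G) (hp : commutator G = ⊤)
    (hS : ∀ (S : Type u) [Group S] [Finite S] [IsSimpleGroup S], ¬ (∀ a b : S, a * b = b * a) → CodOK n S →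
      Nonempty (S ≃* alternatingGroup (Fin n)))
    (hSch : ∀ (K : Type u) [Group K] [Finite K] [IsSimpleGroup K], ¬ IsMulCommutative K → Cfsg.Agent.Schreier.Basic.Sch K)
    (hev : ∀ (K : Type u) [Group K] [Finite K] [IsSimpleGroup K], ¬ IsMulCommutative K → 2 ∣ Nat.card K)
    (h3 : ∀ {n : ℕ}, n = 6 ∨ n = 7 → ∀ {G : Type u} [Group G] [Finite G] (M : Subgroup G) [M.Normal]
      (_ : G ⧸ M ≃* alternatingGroup (Fin n)), M ≤ center G → Nat.card M = 3 →
      (∀ χ : IrrCharacter G, ¬ M ≤ chKer χ → ∃ d : ℕ, ADeg n d ∧ charDegree (χ : G → ℂ) = Nat.card M * d) → False)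
    (M : Subgroup G) [hM : M.Normal] (e : G ⧸ M ≃* alternatingGroup (Fin n)) (hM1 : M ≠ ⊥)
    (hmin : ∀ L : Subgroup G, L.Normal → L ≤ M → L = ⊥ ∨ L = M) : False := by
  have hu : ∀ K : Subgroup G, K.Normal → K ≠ ⊥ → M ≤ K := fun K hK hK1 =>
    uniq hn h hp (fun S _ _ _ hSa hSc => by
      obtain ⟨f⟩ := hS S hSa hSc
      exact Nat.card_congr f.toEquiv) M e hM1 hmin K hK hK1
  have hsq := sq_dvd h M e hu
  have hab := above h M e hu
  by_cases hcomm : ∀ x ∈ M, ∀ y ∈ M, Commute x y
  · by_cases hMc : M ≤ center G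
    · exact central_false hn hp M e hM1 hmin hu hsq hMc hab fun h67 h4 => h3 h67 M e hMc h4 hab
    · exact noncentral_false hn M e hM1 hmin hsq hcomm hMc
  · exact nonab_false hn hp hSch hev M e hmin hu hsq hcomm

theorem reduce (hn : 5 ≤ n) [Nontrivial G] (h : CodOK n G)
    (hS : ∀ (S : Type u) [Group S] [Finite S] [IsSimpleGroup S], ¬ (∀ a b : S, a * b = b * a) → CodOK n S →
      Nonempty (S ≃* alternatingGroup (Fin n)))
    (hSch : ∀ (K : Type u) [Group K] [Finite K] [IsSimpleGroup K], ¬ IsMulCommutative K → Cfsg.Agent.Schreier.Basic.Sch K)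
    (hev : ∀ (K : Type u) [Group K] [Finite K] [IsSimpleGroup K], ¬ IsMulCommutative K → 2 ∣ Nat.card K)
    (h3 : ∀ {n : ℕ}, n = 6 ∨ n = 7 → ∀ {G : Type u} [Group G] [Finite G] (M : Subgroup G) [M.Normal]
      (_ : G ⧸ M ≃* alternatingGroup (Fin n)), M ≤ center G → Nat.card M = 3 →
      (∀ χ : IrrCharacter G, ¬ M ≤ chKer χ → ∃ d : ℕ, ADeg n d ∧ charDegree (χ : G → ℂ) = Nat.card M * d) → False) :
    Nonempty (G ≃* alternatingGroup (Fin n)) := by
  classical
  have hp := h.perfect hn
  -- a maximal normal subgroup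
  obtain ⟨M0, hM0, hmax⟩ : ∃ M0 : Subgroup G, (M0.Normal ∧ M0 ≠ ⊤) ∧ ∀ L : Subgroup G, L.Normal → M0 ≤ L → L ≠ ⊤ → L = M0 := by
    obtain ⟨M0, h1⟩ := (Set.toFinite {L : Subgroup G | L.Normal ∧ L ≠ ⊤}).exists_maximal
      ⟨⊥, inferInstance, fun h => by
        have := (Subgroup.subsingleton_iff (G := G)).1 (subsingleton_of_bot_eq_top h)
        exact not_subsingleton G this⟩
    exact ⟨M0, h1.1, fun L hL hle hne => (h1.eq_of_le ⟨hL, hne⟩ hle).symm⟩
  obtain ⟨hM0n, hM0t⟩ := hM0
  have hQs : IsSimpleGroup (G ⧸ M0) := by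
    have hnt : Nontrivial (G ⧸ M0) := by
      rw [← not_subsingleton_iff_nontrivial]
      intro hs
      exact hM0t (QuotientGroup.subgroup_eq_top_of_subsingleton M0 hs)
    constructor
    intro L hL
    by_cases hc : L.comap (QuotientGroup.mk' M0) = ⊤
    · right
      rw [← Subgroup.map_comap_eq_self_of_surjective (QuotientGroup.mk'_surjective M0) L, hc, ← MonoidHom.range_eq_map,
        MonoidHom.range_eq_top.2 (QuotientGroup.mk'_surjective M0)]
    · left
      have h1 := hmax _ (hL.comap _) (by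
        intro x hx
        rw [mem_comap, QuotientGroup.mk'_apply, (QuotientGroup.eq_one_iff x).2 hx]
        exact one_mem L) hc
      rw [← Subgroup.map_comap_eq_self_of_surjective (QuotientGroup.mk'_surjective M0) L, h1,
        QuotientGroup.map_mk'_self]
  have hQc : CodOK n (G ⧸ M0) := h.of_surj _ (QuotientGroup.mk'_surjective M0)
  have hQn : ¬ ∀ a b : G ⧸ M0, a * b = b * a := by
    intro hc
    have h1 := perfect_quot (K := M0) hp
    have h2 : commutator (G ⧸ M0) = ⊥ := by
      rw [eq_bot_iff, commutator_def, commutator_le]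
      intro a _ b _
      rw [mem_bot, commutatorElement_eq_one_iff_mul_comm]
      exact hc a b
    rw [h2] at h1
    exact bot_ne_top h1
  obtain ⟨e0⟩ := hS _ hQn hQc
  by_cases hbot : M0 = ⊥
  · subst hbot
    exact ⟨QuotientGroup.quotientBot.symm.trans e0⟩
  · exfalso
    -- a chief factor `M0 / N`
    obtain ⟨N, hN, hmaxN⟩ : ∃ N : Subgroup G, (N.Normal ∧ N < M0) ∧ ∀ L : Subgroup G, L.Normal → N ≤ L → L < M0 → L = N := by
      obtain ⟨N, h1⟩ := (Set.toFinite {L : Subgroup G | L.Normal ∧ L < M0}).exists_maximal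
        ⟨⊥, inferInstance, bot_lt_iff_ne_bot.2 hbot⟩
      exact ⟨N, h1.1, fun L hL hle hne => (h1.eq_of_le ⟨hL, hne⟩ hle).symm⟩
    obtain ⟨hNn, hNlt⟩ := hN
    have hMn : (M0.map (QuotientGroup.mk' N)).Normal := hM0n.map _ (QuotientGroup.mk'_surjective N)
    let e1 : (G ⧸ N) ⧸ M0.map (QuotientGroup.mk' N) ≃* alternatingGroup (Fin n) :=
      (QuotientGroup.quotientQuotientEquivQuotient N M0 hNlt.le).trans e0
    refine minimal_false hn (h.of_surj _ (QuotientGroup.mk'_surjective N)) (perfect_quot (K := N) hp) hS hSch hev h3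
      (M0.map (QuotientGroup.mk' N)) e1 ?_ ?_
    · intro h1
      rw [Subgroup.map_eq_bot_iff, QuotientGroup.ker_mk'] at h1
      exact absurd h1 hNlt.not_ge
    · intro L hL hLM
      have hLc : L = (L.comap (QuotientGroup.mk' N)).map (QuotientGroup.mk' N) :=
        (Subgroup.map_comap_eq_self_of_surjective (QuotientGroup.mk'_surjective N) L).symm
      have h1 : N ≤ L.comap (QuotientGroup.mk' N) := by
        intro x hx
        rw [mem_comap, QuotientGroup.mk'_apply, (QuotientGroup.eq_one_iff x).2 hx]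
        exact one_mem L
      have h2 : L.comap (QuotientGroup.mk' N) ≤ M0 := by
        intro x hx
        obtain ⟨y, hy, hyx⟩ := hLM hx
        have h4 : y⁻¹ * x ∈ N := QuotientGroup.eq.1 hyx
        have h5 : x = y * (y⁻¹ * x) := by group
        rw [h5]
        exact mul_mem hy (hNlt.le h4)
      rcases h2.lt_or_eq with h4 | h4
      · left
        rw [hLc, hmaxN _ (hL.comap _) h1 h4, QuotientGroup.map_mk'_self]
      · right
        rw [hLc, h4]

end Cfsg.Agent.H495.Cod
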