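import Cfsg.Agent.H495.Cod.Nonab
import Cfsg.Agent.H107.SpinRep
import Cfsg.Agent.H704.PP

/-!
# Codegrees inside the codegrees of an alternating group (helper495, S4941): `|M| ≠ 2`
-/

set_option autoImplicit false
set_option linter.unusedSectionVars false

universe u v

namespace Cfsg.Agent.H495.Cod

open Cfsg Cfsg.Agent.Characters.Core Cfsg.Agent.H686.CharKit Subgroup
open Cfsg.Agent.SporadicRecognition.AltCover (IsCover)
open Cfsg.Agent.H704 (IsDeg)

theorem adeg_nine {d : ℕ} (h : ADeg 9 d) : 8 ≤ d := by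
  obtain ⟨⟨θ, m, ρ, hirr, hρ⟩, hne, hd⟩ := h
  have hd' : charDegree θ = d := hd
  have hm : (m : ℂ) = θ 1 := by
    rw [← hρ]
    simp [Representation.character]
  have hdm : d = m := by
    rw [← hd', charDegree, ← hm]
    simp
  have hsim := simple_alt (n := 9) (by norm_num)
  have hc := card_ker_simple ⟨θ, m, ρ, hirr, hρ⟩ hne
  have := H189.FeitTits.feit_tits (k := ℂ) 0 (r := 9) le_rfl (MonoidHom.id _) Function.surjective_id ρ (by
    intro g hg
    have h1 : θ g = θ 1 := by
      rw [← hρ]
      simp only [Representation.character, hg, map_one]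
    have h2 : Subsingleton {g : ↥(alternatingGroup (Fin 9)) // θ g = θ 1} := (Nat.card_eq_one_iff_unique.1 hc).1
    exact congrArg Subtype.val (h2.elim ⟨g, h1⟩ ⟨1, rfl⟩))
  rw [Module.finrank_fin_fun] at this
  simp at this
  omega

variable {n : ℕ} {G : Type u} [Group G] [Finite G]

/-- the cover -/
theorem isCover (hn : 5 ≤ n) (M : Subgroup G) [hM : M.Normal] (e : G ⧸ M ≃* alternatingGroup (Fin n))
    (hu : ∀ K : Subgroup G, K.Normal → K ≠ ⊥ → M ≤ K) (hMc : M ≤ center G) (hcard : Nat.card M = 2) {z : G}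
    (hz : z ∈ M) (hz1 : z ≠ 1) : IsCover (e.toMonoidHom.comp (QuotientGroup.mk' M)) z := by
  have hmem : ∀ x ∈ M, x = 1 ∨ x = z := by
    intro x hx
    have h1 := (Nat.card_eq_two_iff' (⟨1, one_mem M⟩ : M)).1 hcard
    by_cases hx1 : x = 1
    · exact Or.inl hx1
    · right
      have h2 := h1.unique (y₁ := (⟨x, hx⟩ : M)) (y₂ := ⟨z, hz⟩) (fun h => hx1 (congrArg Subtype.val h))
        (fun h => hz1 (congrArg Subtype.val h))
      exact congrArg Subtype.val h2
  have hker : ∀ x, e.toMonoidHom.comp (QuotientGroup.mk' M) x = 1 ↔ x ∈ M := by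
    intro x
    rw [MonoidHom.comp_apply, QuotientGroup.mk'_apply]
    constructor
    · intro h
      rw [← QuotientGroup.eq_one_iff]
      apply e.injective
      rw [map_one]
      exact h
    · intro h
      rw [(QuotientGroup.eq_one_iff x).2 h, map_one]
  refine ⟨hz1, ?_, ?_, e.surjective.comp (QuotientGroup.mk'_surjective M), ?_, ?_⟩
  · rcases hmem (z * z) (mul_mem hz hz) with h | h
    · exact h
    · exfalso
      exact hz1 (mul_left_cancel (h.trans (mul_one z).symm))
  · exact fun x => mem_center_iff.1 (hMc hz) x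
  · intro x
    rw [hker]
    constructor
    · exact hmem x
    · rintro (rfl | rfl)
      · exact one_mem M
      · exact hz
  · intro s hs
    have hnt : Nontrivial (alternatingGroup (Fin n)) := by
      have := simple_alt hn
      infer_instance
    have hinj : Function.Injective s := fun a b hab => by rw [← hs a, ← hs b, hab]
    have hnorm : s.range.Normal := by
      constructor
      rintro _ ⟨a, rfl⟩ g
      set c := e.toMonoidHom.comp (QuotientGroup.mk' M) g with hc
      have h1 : g * (s c)⁻¹ ∈ M := by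
        rw [← hker, map_mul, map_inv, hs, mul_inv_cancel]
      have h2 : g = (g * (s c)⁻¹) * s c := by group
      have h3 := mem_center_iff.1 (hMc h1) (s c * s a * (s c)⁻¹)
      refine ⟨c * a * c⁻¹, ?_⟩
      rw [map_mul, map_mul, map_inv]
      calc s c * s a * (s c)⁻¹ = (s c * s a * (s c)⁻¹) * (g * (s c)⁻¹) * (g * (s c)⁻¹)⁻¹ := by group
        _ = (g * (s c)⁻¹) * (s c * s a * (s c)⁻¹) * (g * (s c)⁻¹)⁻¹ := by rw [h3]
        _ = g * s a * g⁻¹ := by group
    have hne : s.range ≠ ⊥ := by
      intro h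
      obtain ⟨a, ha⟩ := exists_ne (1 : alternatingGroup (Fin n))
      have h1 : s a ∈ s.range := ⟨a, rfl⟩
      rw [h, mem_bot] at h1
      exact ha (hinj (h1.trans (map_one s).symm))
    obtain ⟨a, ha⟩ := hu _ hnorm hne hz
    have h1 := hs a
    rw [ha, (hker z).2 hz] at h1
    rw [← h1, map_one] at ha
    exact hz1 ha.symm

theorem central_two (hn : 5 ≤ n) (M : Subgroup G) [hM : M.Normal] (e : G ⧸ M ≃* alternatingGroup (Fin n))
    (hu : ∀ K : Subgroup G, K.Normal → K ≠ ⊥ → M ≤ K) (hMc : M ≤ center G) (hcard : Nat.card M = 2)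
    (hab : ∀ χ : IrrCharacter G, ¬ M ≤ chKer χ → ∃ d : ℕ, ADeg n d ∧ charDegree (χ : G → ℂ) = Nat.card M * d) :
    False := by
  obtain ⟨z, hz, hz1⟩ : ∃ z ∈ M, z ≠ 1 := by
    have h1 : M ≠ ⊥ := by
      rintro rfl
      rw [Subgroup.card_bot] at hcard
      omega
    exact (Subgroup.ne_bot_iff_exists_ne_one.1 h1).elim fun a ha => ⟨a, a.2, fun h => ha (Subtype.ext h)⟩
  obtain ⟨χ, hχ, hχz, hχ1⟩ := H107.Spin.exists_basic_spin hn (isCover hn M e hu hMc hcard hz hz1)
  have hpos : χ 1 ≠ 0 := by
    rw [hχ1]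
    exact_mod_cast pow_ne_zero _ two_ne_zero
  obtain ⟨d, hd, hcd⟩ := hab ⟨χ, hχ⟩ (by
    intro h
    have h1 : χ z = χ 1 := h hz
    rw [hχz] at h1
    exact hpos (self_eq_neg.1 h1.symm))
  have hdeg : 2 ^ ((n - 2) / 2) = 2 * d := by
    have h1 : charDegree χ = Nat.card M * d := hcd
    rw [hcard] at h1
    rw [← h1, charDegree, hχ1, Complex.natCast_re, Nat.floor_natCast]
  obtain ⟨h1, h2, h3, h4⟩ := hd.facts hn
  obtain ⟨m, hm⟩ : ∃ m, (n - 2) / 2 = m + 1 := ⟨(n - 2) / 2 - 1, by omega⟩
  rw [hm, pow_succ] at hdeg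
  have hdm : d = 2 ^ m := by omega
  by_cases h10 : 10 ≤ n
  · have h5 : ∃ j, (j = m ∨ j = m + 1) ∧ IsDeg n (2 ^ j) := by
      rcases h4 with h4 | h4
      · exact ⟨m, Or.inl rfl, by rwa [hdm] at h4⟩
      · refine ⟨m + 1, Or.inr rfl, ?_⟩
        rw [hdm] at h4
        rwa [pow_succ, mul_comm]
    obtain ⟨j, hj, hj'⟩ := h5
    have hm3 : 3 ≤ m := by omega
    rcases H704.pp_theorem h10 hj' Nat.prime_two (by omega) (Or.inl rfl) with h6 | ⟨-, h6⟩
    · have h7 : 2 ^ j = 2 * m + 3 ∨ 2 ^ j = 2 * m + 4 := by omega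
      have h8 : ∃ i, j = 1 + i := ⟨j - 1, by omega⟩
      obtain ⟨i, rfl⟩ := h8
      rw [pow_add, pow_one] at h7
      have h9 : 2 ^ i = m + 2 := by omega
      rcases hj with hj | hj
      · have h11 : m = i + 1 := by omega
        subst h11
        have h12 : i ≠ 0 := by omega
        have h13 : i ≠ 1 := by omega
        have h14 : i ≠ 2 := by rintro rfl; omega
        have h16 : ∀ i, 3 ≤ i → i + 3 < 2 ^ i := by
          intro i hi
          induction i, hi using Nat.le_induction with
          | base => norm_num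
          | succ i hi ih => rw [pow_succ]; omega
        have := h16 i (by omega)
        omega
      · have h11 : m = i := by omega
        subst h11
        have h16 : ∀ i, 3 ≤ i → i + 2 < 2 ^ i := by
          intro i hi
          induction i, hi using Nat.le_induction with
          | base => norm_num
          | succ i hi ih => rw [pow_succ]; omega
        have := h16 m hm3
        omega
    · have h7 : 3 ∣ 2 ^ j := by rw [h6]; norm_num
      have h8 := (Nat.prime_three.dvd_of_dvd_pow h7)
      omega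
  · have h5 : n = 5 ∨ n = 6 ∨ n = 7 ∨ n = 8 ∨ n = 9 := by omega
    rcases h5 with rfl | rfl | rfl | rfl | rfl
    · have : m = 0 := by omega
      subst this
      omega
    · have : m = 1 := by omega
      subst this
      subst hdm
      rcases h4 with h4 | h4 <;> have := H704.deg6 h4 <;> revert this <;> decide
    · have : m = 1 := by omega
      subst this
      subst hdm
      rcases h4 with h4 | h4 <;> have := H704.deg7 h4 <;> revert this <;> decide
    · have : m = 2 := by omega
      subst this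
      subst hdm
      rcases h4 with h4 | h4 <;> have := H704.deg8 h4 <;> revert this <;> decide
    · have : m = 2 := by omega
      subst this
      have := adeg_nine hd
      omega

end Cfsg.Agent.H495.Cod
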